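import Groth.Agent.Curves.K326.DegPts
import Groth.Agent.CurvesC.DualNodal
import Groth.Agent.CurvesC.DualDegForm
import Groth.Agent.CurvesC.TailUnion
import Groth.Agent.CurvesC.CanonGG
import Groth.Agent.S1605
import Groth.Agent.S1606
import Groth.Agent.S1566

/-!
# Numerical study of `ω(∑ p_i)` on a pointed semistable curve
-/

set_option autoImplicit false
set_option maxHeartbeats 400000
universe u
open CategoryTheory CategoryTheory.Limits AlgebraicGeometry TopologicalSpace Opposite IsLocalRing

namespace K326.SemiStab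

open Groth.Agent.Divis.CartierBasic Groth.Agent.Divis.CartierStalk Groth.Agent.CurvesC.TailGeom
open Groth.Agent.CurvesB Groth.Agent.CurvesC K326.StalkVan K326.PtsDiv K326.DegPts Groth.Agent
open Groth.Agent.CurvesC.TailNum Groth.Agent.CurvesC.DegIso Groth.Agent.CurvesC.TailComp

attribute [local instance] subOver

theorem isNoetherian_sub (k : Type u) [Field k] (X : Scheme.{u}) [X.Over (Spec (CommRingCat.of k))]
    [IsProper (X ↘ (Spec (CommRingCat.of k)))] (J : X.IdealSheafData) : IsNoetherian J.subscheme := by
  have hP : IsProper (J.subscheme ↘ Spec (CommRingCat.of k)) :=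
    inferInstanceAs (IsProper (J.subschemeι ≫ (X ↘ (Spec (CommRingCat.of k)))))
  exact Groth.Agent.VarietyB.DegFin.isNoetherian_of_isProper k J.subscheme

variable (k : Type u) [Field k] [IsAlgClosed k] (X : Scheme.{u}) [X.Over (Spec (CommRingCat.of k))]
  [IsProper (X ↘ (Spec (CommRingCat.of k)))] [IsReduced X] [ConnectedSpace X]

theorem isInvertible_of_iso {X : Scheme.{u}} {M N : X.Modules} (e : M ≅ N) (h : PicF.IsInvertible M) :
    PicF.IsInvertible N := by
  intro x
  obtain ⟨U, hx, ⟨f⟩⟩ := h x
  exact ⟨U, hx, ⟨((Scheme.Modules.restrictFunctor U.ι).mapIso e).symm ≪≫ f⟩⟩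

/-- The numerical data of a twisted dualizing module. -/
structure Tw {n : ℕ} {p : Fin n → X} (hp : Pts k n p) (w M : X.Modules) : Prop where
  hw : PicF.IsInvertible w
  hpair : ∃ t : Coh.HH X w 1 →ₗ[k] k, DualCount.IsPair k t
  hM : ∃ N : X.Modules, ClSub.IsInverseOf N (ClSub.idealMod (Scheme.IdealSheafData.vanishingIdeal (ptsCl hp.cl))) ∧
    Nonempty (M ≅ CohB1.tensorMod w N)

omit [IsAlgClosed k] [IsProper (X ↘ (Spec (CommRingCat.of k)))] [IsReduced X] [ConnectedSpace X] in
variable {k X} in
theorem Tw.isInvertible {n : ℕ} {p : Fin n → X} {hp : Pts k n p} {w M : X.Modules} (h : Tw k X hp w M) :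
    PicF.IsInvertible M := by
  obtain ⟨N, hN, ⟨e⟩⟩ := h.hM
  exact isInvertible_of_iso e.symm
    (Groth.Agent.Fdesc.LocGen.isInvertible_tensorMod h.hw (Dix.IdealModCartier.isInvertible_of_isInverseOf hN).1)

/-- The number of special points of a closed subset. -/
noncomputable abbrev spec {n : ℕ} (p : Fin n → X) (S : Set X) : ℕ := (S ∩ closure Sᶜ).ncard + (p ⁻¹' S).ncard

/-- The degree formula on connected subcurves. -/
theorem deg_formula (hdim : topologicalKrullDim X = 1) (hX : Curv2.AtWorstNodal k X) {n : ℕ} {p : Fin n → X}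
    (hp : Pts k n p) (w M : X.Modules) (hT : Tw k X hp w M)
    (J : X.IdealSheafData) [IsReduced J.subscheme] [ConnectedSpace J.subscheme]
    (hJ1 : topologicalKrullDim J.subscheme = 1) :
    Curv2.deg k J.subscheme ((Scheme.Modules.pullback J.subschemeι).obj M) 1 =
      2 * (Curv2.genus k J.subscheme : ℤ) - 2 + (spec X p (J.support : Set X) : ℤ) := by
  have hP : IsProper (J.subscheme ↘ Spec (CommRingCat.of k)) :=
    inferInstanceAs (IsProper (J.subschemeι ≫ (X ↘ (Spec (CommRingCat.of k)))))
  have hN1 := isNoetherian_sub k X J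
  have hN2 := Groth.Agent.VarietyB.DegFin.isNoetherian_of_isProper k X
  have hpure := TailMain.pure_of_connected J.subscheme hJ1
  obtain ⟨N, hN, ⟨e⟩⟩ := hT.hM
  obtain ⟨t, ht⟩ := hT.hpair
  have hci := TailUnion.subset_closure_interior hdim.le J hpure
  have h1 := DualDegForm.deg_form k hdim w hT.hw ht J.support hci
  have h2 := finrank_inter k X hdim.le hX J.support hci
  rw [← TailUnion.eq_vanishingIdeal J] at h1 h2
  have h3 : Module.finrank k (Coh.HH X (ClSub.quotMod J) 0) = 1 := by
    rw [← finrank_quotMod k X J 0]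
    exact finrank_zero k J.subscheme
  have h4 : Module.finrank k (Coh.HH X (ClSub.quotMod J) 1) = Curv2.genus k J.subscheme :=
    (finrank_quotMod k X J 1).symm
  rw [h2, h3, h4] at h1
  rw [deg_restrict_twist k X hdim hp J hpure w N M hT.hw hN e]
  have h5 : Curv2.deg k J.subscheme ((Scheme.Modules.pullback J.subschemeι).obj w) 1 =
    (((J.support : Set X) ∩ closure (J.support : Set X)ᶜ).ncard : ℤ) -
      2 * (((1 : ℕ) : ℤ) - (Curv2.genus k J.subscheme : ℤ)) := h1
  rw [h5]
  unfold spec
  push_cast
  ring

omit [IsAlgClosed k] [IsReduced X] [ConnectedSpace X] in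
/-- Closed subschemes have smaller genus. -/
theorem genus_le (hdim : topologicalKrullDim X ≤ 1) (J K : X.IdealSheafData) (hJK : J ≤ K) :
    Curv2.genus k K.subscheme ≤ Curv2.genus k J.subscheme := by
  have hP : IsProper (J.subscheme ↘ Spec (CommRingCat.of k)) :=
    inferInstanceAs (IsProper (J.subschemeι ≫ (X ↘ (Spec (CommRingCat.of k)))))
  have hd : topologicalKrullDim J.subscheme ≤ 1 :=
    (J.subschemeι.isClosedEmbedding.isInducing.topologicalKrullDim_le).trans hdim
  have hcl : IsClosedImmersion (Scheme.IdealSheafData.inclusion hJK ∣_ (⊤ : J.subscheme.Opens)) := inferInstance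
  have hcomp : Scheme.IdealSheafData.inclusion hJK ≫ (J.subscheme ↘ Spec (CommRingCat.of k)) =
      K.subscheme ↘ Spec (CommRingCat.of k) := by
    change Scheme.IdealSheafData.inclusion hJK ≫ J.subschemeι ≫ _ = K.subschemeι ≫ _
    rw [← Category.assoc, Scheme.IdealSheafData.inclusion_subschemeι]
  exact Groth.Agent.S1566.result k J.subscheme K.subscheme hd (Scheme.IdealSheafData.inclusion hJK) hcomp
    ⊤ (by simp) hcl

omit [IsAlgClosed k] [IsReduced X] [ConnectedSpace X] in
theorem genus_sub_le (hdim : topologicalKrullDim X ≤ 1) (J : X.IdealSheafData) :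
    Curv2.genus k J.subscheme ≤ Curv2.genus k X := by
  have hcl : IsClosedImmersion (J.subschemeι ∣_ (⊤ : X.Opens)) := inferInstance
  exact Groth.Agent.S1566.result k X J.subscheme hdim J.subschemeι rfl ⊤ (by simp) hcl

theorem connected_comp {X : Scheme.{u}} (C : Set X) (hC : C ∈ irreducibleComponents (X : Type u)) :
    ConnectedSpace (compIdeal C hC).subscheme := by
  have := irreducible_comp C hC
  infer_instance

theorem dim_comp (X : Scheme.{u}) {C : Set X} (hC : C ∈ irreducibleComponents (X : Type u)) (h1 : topologicalKrullDim C = 1) :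
    topologicalKrullDim (compIdeal C hC).subscheme = 1 := by
  rw [← Groth.Agent.VarietyB.DegComp.topologicalKrullDim_range_eq (compIdeal C hC).subschemeι, range_comp]
  exact h1

/-- On a connected subcurve of genus zero the degree is nonnegative. -/
theorem nonneg_of_genus_zero (hdim : topologicalKrullDim X = 1) (hX : Curv2.AtWorstNodal k X) {n : ℕ}
    {p : Fin n → X} (hp : Pts k n p) (w M : X.Modules) (hT : Tw k X hp w M)
    (hss : ∀ (E : Set X) (hE : E ∈ irreducibleComponents (X : Type u)),
      Subsingleton (Coh.HH (compIdeal E hE).subscheme (Coh.structureModule (compIdeal E hE).subscheme) 1) →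
        2 ≤ spec X p E)
    (J : X.IdealSheafData) [IsReduced J.subscheme] (hg : Curv2.genus k J.subscheme = 0) :
    0 ≤ Curv2.deg k J.subscheme ((Scheme.Modules.pullback J.subschemeι).obj M) 1 := by
  by_contra hcon
  obtain ⟨C, hC, hCJ, hC1, hneg⟩ := exists_component_neg k X hdim.le J M hT.isInvertible (not_le.mp hcon)
  have hirr := connected_comp C hC
  have hJC : J ≤ compIdeal C hC := by
    rw [TailUnion.eq_vanishingIdeal J]
    exact Scheme.IdealSheafData.gc.monotone_u hCJ
  have hgC : Curv2.genus k (compIdeal C hC).subscheme = 0 :=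
    Nat.le_zero.mp ((genus_le k X hdim.le J _ hJC).trans_eq hg)
  have h1 := deg_formula k X hdim hX hp w M hT (compIdeal C hC) (dim_comp X hC hC1)
  have hP : IsProper ((compIdeal C hC).subscheme ↘ Spec (CommRingCat.of k)) :=
    inferInstanceAs (IsProper ((compIdeal C hC).subschemeι ≫ (X ↘ (Spec (CommRingCat.of k)))))
  have hfin := Groth.Agent.S0002.result k (compIdeal C hC).subscheme
    (Coh.structureModule (compIdeal C hC).subscheme) (UnitCoh.isCoh_unit _) 1
  have h2 := hss C hC (Module.finrank_zero_iff.mp hgC)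
  rw [h1, hgC, coe_support_compIdeal] at hneg
  have h3 : (2 : ℤ) ≤ (spec X p C : ℤ) := by exact_mod_cast h2
  change 2 * ((0 : ℕ) : ℤ) - 2 + (spec X p C : ℤ) < 0 at hneg
  push_cast at hneg h3
  linarith

/-- A connected subcurve of genus one has a special point if `2g - 2 + n > 0`. -/
theorem spec_pos (hdim : topologicalKrullDim X = 1) {n : ℕ} {p : Fin n → X}
    (hgn : 0 < 2 * (Curv2.genus k X : ℤ) - 2 + n)
    (J : X.IdealSheafData) [IsReduced J.subscheme] [ConnectedSpace J.subscheme]
    (hJ1 : topologicalKrullDim J.subscheme = 1) (hg : Curv2.genus k J.subscheme = 1) :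
    0 < spec X p (J.support : Set X) := by
  by_contra hcon
  have h0 : spec X p (J.support : Set X) = 0 := by omega
  obtain ⟨h1, h2⟩ := Nat.add_eq_zero_iff.mp h0
  have hN1 := isNoetherian_sub k X J
  have hN2 := Groth.Agent.VarietyB.DegFin.isNoetherian_of_isProper k X
  have hpure := TailMain.pure_of_connected J.subscheme hJ1
  have hci := TailUnion.subset_closure_interior hdim.le J hpure
  have hfin : ((J.support : Set X) ∩ closure (J.support : Set X)ᶜ).Finite :=
    Groth.Agent.VarietyB.CurveTop.finite_of_isClosed_of_closedPoints _ (J.support.isClosed.inter isClosed_closure)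
      fun x hx => K326.NodeInter.isClosed_of_mem hdim.le J.support hci x hx.1 hx.2
  have hem := (Set.ncard_eq_zero hfin).mp h1
  have hop : IsOpen (J.support : Set X) := by
    have h3 : (J.support : Set X) = (closure (J.support : Set X)ᶜ)ᶜ := by
      apply Set.Subset.antisymm
      · intro x hx hx'
        exact (Set.eq_empty_iff_forall_notMem.mp hem x) ⟨hx, hx'⟩
      · intro x hx
        by_contra hx'
        exact hx (subset_closure hx')
    rw [h3]
    exact isClosed_closure.isOpen_compl
  have hne : (J.support : Set X).Nonempty := by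
    rw [← Scheme.IdealSheafData.range_subschemeι]
    exact Set.range_nonempty _
  have huniv := (show IsClopen (J.support : Set X) from ⟨J.support.isClosed, hop⟩).eq_univ hne
  have hbot : J = ⊥ := by
    rw [← Scheme.IdealSheafData.support_eq_top_iff]
    ext1
    exact huniv
  have hn : n = 0 := by
    rw [huniv, Set.preimage_univ, Set.ncard_univ, Nat.card_fin] at h2
    exact h2
  subst hbot
  have hgX : Curv2.genus k (⊥ : X.IdealSheafData).subscheme = Curv2.genus k X := by
    have h3 := finrank_quotMod k X (⊥ : X.IdealSheafData) 1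
    rw [CanonGG.finrank_bot X k 1] at h3
    exact h3
  rw [← hgX, hg, hn] at hgn
  norm_num at hgn

end K326.SemiStab
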