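import Groth.Agent.Curves.K326.SemiStab
import Groth.Agent.S1518
import Groth.Agent.VarietyB.GGStalk

/-!
# Vanishing and global generation for powers of `ω(∑ p_i)` on pointed semistable curves
-/

set_option autoImplicit false
set_option maxHeartbeats 400000
universe u
open CategoryTheory CategoryTheory.Limits AlgebraicGeometry TopologicalSpace Opposite IsLocalRing

namespace K326.SemiMain

open Groth.Agent.Divis.CartierBasic Groth.Agent.Divis.CartierStalk Groth.Agent.CurvesC.TailGeom
open Groth.Agent.CurvesB Groth.Agent.CurvesC K326.StalkVan K326.PtsDiv K326.DegPts Groth.Agent K326.SemiStab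
open Groth.Agent.CurvesC.TailNum Groth.Agent.CurvesC.DegIso Groth.Agent.CurvesC.TailComp

attribute [local instance] subOver

theorem idealMod_top (X : Scheme.{u}) : Nonempty (Coh.structureModule X ≅ ClSub.idealMod (⊤ : X.IdealSheafData)) := by
  refine Dix.IdealModCartier.idealMod_principal (D := (⊤ : X.IdealSheafData)) (a := (1 : Γ(X, ⊤))) ?_
  intro W hW
  rw [map_one]
  refine ⟨one_mem _, ?_⟩
  rw [Scheme.IdealSheafData.ideal_top, Pi.top_apply, Ideal.span_singleton_one]

section

variable (k : Type u) [Field k] [IsAlgClosed k] (X : Scheme.{u}) [X.Over (Spec (CommRingCat.of k))]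
  [IsProper (X ↘ (Spec (CommRingCat.of k)))]

theorem finrank_quotMod_top :
    Module.finrank k (Coh.HH X (ClSub.quotMod (⊤ : X.IdealSheafData)) 0) = 0 := by
  have h0 : ((⊤ : X.IdealSheafData).support : Set X) = ∅ := by
    rw [Scheme.IdealSheafData.support_top]; rfl
  have := isFinite_of_finite k X (⊤ : X.IdealSheafData) (by rw [h0]; exact Set.finite_empty)
  rw [finrank_quotMod_eq_ncard k X (⊤ : X.IdealSheafData), h0, Set.ncard_empty]
  intro x hx
  have hx' : x ∈ ((⊤ : X.IdealSheafData).support : Set X) := hx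
  rw [h0] at hx'
  exact absurd hx' (Set.notMem_empty _)

variable [IsReduced X] [ConnectedSpace X]

/-- A semistable pointed curve: the bound on the number of special points of components of genus zero. -/
def SS {n : ℕ} (p : Fin n → X) : Prop :=
  ∀ (E : Set X) (hE : E ∈ irreducibleComponents (X : Type u)),
      Subsingleton (Coh.HH (compIdeal E hE).subscheme (Coh.structureModule (compIdeal E hE).subscheme) 1) →
        2 ≤ spec X p E

theorem subsingleton_H1 (hdim : topologicalKrullDim X = 1) (hX : Curv2.AtWorstNodal k X) {n : ℕ}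
    {p : Fin n → X} (hp : Pts k n p) (w M : X.Modules) (hT : Tw k X hp w M) (hss : SS X p)
    (hgn : 0 < 2 * (Curv2.genus k X : ℤ) - 2 + n) (m : ℕ) (hm : 2 ≤ m) :
    Subsingleton (Coh.HH X (CohB1.tensorPow M m) 1) := by
  by_contra hcon
  rw [not_subsingleton_iff_nontrivial] at hcon
  have hMi := hT.isInvertible
  have hLi := Groth.Agent.Fdesc.LocGen.isInvertible_tensorPow hMi m
  obtain ⟨e0⟩ := idealMod_top X
  have e1 : CohB1.tensorMod (ClSub.idealMod (⊤ : X.IdealSheafData)) (CohB1.tensorPow M m) ≅ CohB1.tensorPow M m :=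
    Ega2.Tens.mapTIso e0.symm (Iso.refl _) ≪≫ Ega2.Tens.lunit _
  have hnt : Nontrivial (Coh.HH X (CohB1.tensorMod (ClSub.idealMod (⊤ : X.IdealSheafData)) (CohB1.tensorPow M m)) 1) :=
    (CurvesA.HHMap.equivOver k e1 1).toEquiv.nontrivial
  have hZ : topologicalKrullDim (((⊤ : X.IdealSheafData).support : Set X) : Type u) ≤ 0 := by
    have : IsEmpty (((⊤ : X.IdealSheafData).support : Set X) : Type u) := by
      rw [Scheme.IdealSheafData.support_top]
      exact ⟨fun x => x.2⟩
    have h2 : IsEmpty (IrreducibleCloseds (((⊤ : X.IdealSheafData).support : Set X) : Type u)) :=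
      ⟨fun Z => this.elim Z.isIrreducible.1.some⟩
    exact (Order.krullDim_eq_bot (α := IrreducibleCloseds _)).le.trans bot_le
  obtain ⟨J, hJr, hJc, hJ1, hle⟩ := Groth.Agent.S1605.result k X hdim _ hLi ⊤ hZ hnt
  have hP : IsProper (J.subscheme ↘ Spec (CommRingCat.of k)) :=
    inferInstanceAs (IsProper (J.subschemeι ≫ (X ↘ (Spec (CommRingCat.of k)))))
  have h1 : Curv2.euler k J.subscheme (Coh.structureModule J.subscheme) = 1 - (Curv2.genus k J.subscheme : ℤ) := by
    rw [CurveCoh.euler_eq k J.subscheme hJ1, finrank_zero k J.subscheme]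
    rfl
  have h2 : Curv2.deg k J.subscheme ((Scheme.Modules.pullback J.subschemeι).obj (CohB1.tensorPow M m)) 1 ≤
      -2 * Curv2.euler k J.subscheme (Coh.structureModule J.subscheme) +
        (Module.finrank k (Coh.HH X (ClSub.quotMod (⊤ ⊔ J)) 0) : ℤ) := hle
  rw [top_sup_eq, finrank_quotMod_top k X, h1, CanonGG.deg_restrict_pow k X M hMi J hJ1.le m,
    deg_formula k X hdim hX hp w M hT J hJ1] at h2
  push_cast at h2
  have hm' : (2 : ℤ) ≤ m := by exact_mod_cast hm
  rcases Nat.lt_or_ge 0 (Curv2.genus k J.subscheme) with hg | hg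
  · -- positive genus
    have hg' : (1 : ℤ) ≤ Curv2.genus k J.subscheme := by exact_mod_cast hg
    have hs : (0 : ℤ) ≤ spec X p (J.support : Set X) := Nat.cast_nonneg _
    have h3 : (Curv2.genus k J.subscheme : ℤ) = 1 := by
      unfold spec at hs
      push_cast at hs
      nlinarith
    have h4 : Curv2.genus k J.subscheme = 1 := by exact_mod_cast h3
    have h5 := spec_pos k X hdim (p := p) hgn J hJ1 h4
    have h6 : (1 : ℤ) ≤ spec X p (J.support : Set X) := by exact_mod_cast h5
    rw [h3] at h2
    unfold spec at h6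
    push_cast at h6
    nlinarith
  · have hg0 : Curv2.genus k J.subscheme = 0 := Nat.le_zero.mp hg
    have h3 := nonneg_of_genus_zero k X hdim hX hp w M hT hss J hg0
    rw [deg_formula k X hdim hX hp w M hT J hJ1] at h3
    rw [hg0] at h2 h3
    unfold spec at h3
    push_cast at h3 h2
    nlinarith

/-- Global generation of `M ^ m` from the numerical inequality. -/
theorem gg_of (hdim : topologicalKrullDim X = 1) (hX : Curv2.AtWorstNodal k X) {n : ℕ}
    {p : Fin n → X} (hp : Pts k n p) (w M : X.Modules) (hT : Tw k X hp w M) (hss : SS X p)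
    (hgn : 0 < 2 * (Curv2.genus k X : ℤ) - 2 + n) (m : ℕ) (hm : 2 ≤ m) :
    Curv2.IsGloballyGenerated (CohB1.tensorPow M m) := by
  have hMi := hT.isInvertible
  apply Groth.Agent.S1606.result k X hdim _ (Groth.Agent.Fdesc.LocGen.isInvertible_tensorPow hMi m)
  intro J hJr hJc hJ1
  have hm' : (2 : ℤ) ≤ m := by exact_mod_cast hm
  change 2 * (Curv2.genus k J.subscheme : ℤ) ≤
    Curv2.deg k J.subscheme ((Scheme.Modules.pullback J.subschemeι).obj (CohB1.tensorPow M m)) 1
  rcases Nat.lt_or_ge 0 (Curv2.genus k J.subscheme) with hg | hg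
  · have hg' : (1 : ℤ) ≤ Curv2.genus k J.subscheme := by exact_mod_cast hg
    have hs : (0 : ℤ) ≤ spec X p (J.support : Set X) := Nat.cast_nonneg _
    rw [CanonGG.deg_restrict_pow k X M hMi J hJ1.le m, deg_formula k X hdim hX hp w M hT J hJ1]
    have h5 : (2 : ℤ) ≤ (Curv2.genus k J.subscheme : ℤ) + spec X p (J.support : Set X) := by
      by_cases h3 : Curv2.genus k J.subscheme = 1
      · have h5 := spec_pos k X hdim (p := p) hgn J hJ1 h3
        have h6 : (1 : ℤ) ≤ spec X p (J.support : Set X) := by exact_mod_cast h5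
        rw [h3]
        push_cast at h6 ⊢
        linarith
      · have h4 : 2 ≤ Curv2.genus k J.subscheme := by omega
        have h6 : (2 : ℤ) ≤ Curv2.genus k J.subscheme := by exact_mod_cast h4
        linarith
    nlinarith
  · have hg0 : Curv2.genus k J.subscheme = 0 := Nat.le_zero.mp hg
    have h3 := nonneg_of_genus_zero k X hdim hX hp w M hT hss J hg0
    rw [CanonGG.deg_restrict_pow k X M hMi J hJ1.le m, hg0]
    push_cast
    nlinarith

/-- Genus zero: `M` itself is globally generated. -/
theorem gg_one (hdim : topologicalKrullDim X = 1) (hX : Curv2.AtWorstNodal k X) {n : ℕ}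
    {p : Fin n → X} (hp : Pts k n p) (w M : X.Modules) (hT : Tw k X hp w M) (hss : SS X p)
    (hg : Curv2.genus k X = 0) : Curv2.IsGloballyGenerated M := by
  apply Groth.Agent.S1606.result k X hdim _ hT.isInvertible
  intro J hJr hJc hJ1
  have hg0 : Curv2.genus k J.subscheme = 0 := Nat.le_zero.mp ((genus_sub_le k X hdim.le J).trans_eq hg)
  change 2 * (Curv2.genus k J.subscheme : ℤ) ≤
    Curv2.deg k J.subscheme ((Scheme.Modules.pullback J.subschemeι).obj M) 1
  have h3 := nonneg_of_genus_zero k X hdim hX hp w M hT hss J hg0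
  rw [hg0]
  simpa using h3

end

/-- The degree of a globally generated invertible module on a proper integral curve is nonnegative. -/
theorem deg_nonneg_of_gg (k : Type u) [Field k] (X : Scheme.{u}) [X.Over (Spec (CommRingCat.of k))]
    [IsIntegral X] [IsProper (X ↘ (Spec (CommRingCat.of k)))] (hdim : topologicalKrullDim X = 1)
    (L : X.Modules) (hL : PicF.IsInvertible L) (hgg : Curv2.IsGloballyGenerated L) :
    0 ≤ Curv2.deg k X L 1 := by
  obtain ⟨ι, q, hq⟩ := hgg
  have h1 : ∃ s : Coh.structureModule X ⟶ L, s ≠ 0 := by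
    by_contra hcon
    push Not at hcon
    have hq0 : q = 0 := by
      apply Sigma.hom_ext
      intro i
      exact (hcon _).trans (hcon _).symm
    have h2 : (𝟙 L) = 0 := (cancel_epi q).1 (by rw [hq0]; exact (zero_comp (Z := L)).trans (zero_comp (Z := L)).symm)
    obtain ⟨x⟩ : Nonempty X := inferInstance
    obtain ⟨U, e, hx, he⟩ := ((Groth.Agent.Fdesc.LocGen.isInvertible_iff L).mp hL) x
    have h3 : e = 0 := congr(($h2).app U e)
    have : Nonempty U := ⟨⟨x, hx⟩⟩
    have h4 : (1 : Γ(X, U)) = 0 := he.ext (by rw [h3, smul_zero, smul_zero])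
    exact one_ne_zero h4
  obtain ⟨s, hs⟩ := h1
  exact Groth.Agent.S1518.result k X hdim L hL s hs

/-- Converse in genus zero. -/
theorem two_le_of_gg (k : Type u) [Field k] [IsAlgClosed k] (X : Scheme.{u}) [X.Over (Spec (CommRingCat.of k))]
    [IsProper (X ↘ (Spec (CommRingCat.of k)))] [IsReduced X] [ConnectedSpace X]
    (hdim : topologicalKrullDim X = 1) (hX : Curv2.AtWorstNodal k X) {n : ℕ}
    {p : Fin n → X} (hp : Pts k n p) (w M : X.Modules) (hT : Tw k X hp w M)
    (hg : Curv2.genus k X = 0) (hgg : Curv2.IsGloballyGenerated M) (E : Set X)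
    (hE : E ∈ irreducibleComponents (X : Type u)) : 2 ≤ spec X p E := by
  have hN := Groth.Agent.VarietyB.DegFin.isNoetherian_of_isProper k X
  have hirr := irreducible_comp E hE
  have hred : IsReduced (compIdeal E hE).subscheme := inferInstance
  have hint : IsIntegral (compIdeal E hE).subscheme := isIntegral_of_irreducibleSpace_of_isReduced _
  have hcon := connected_comp E hE
  have hP : IsProper ((compIdeal E hE).subscheme ↘ Spec (CommRingCat.of k)) :=
    inferInstanceAs (IsProper ((compIdeal E hE).subschemeι ≫ (X ↘ (Spec (CommRingCat.of k)))))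
  have hE1 := TailMain.pure_of_connected X hdim E hE
  have hd := dim_comp X hE hE1
  have h1 := deg_formula k X hdim hX hp w M hT (compIdeal E hE) hd
  have h2 := deg_nonneg_of_gg k (compIdeal E hE).subscheme hd _
    (Groth.Agent.Fdesc.LocGen.isInvertible_pullback (compIdeal E hE).subschemeι hT.isInvertible)
    (Groth.Agent.VarietyB.GGStalk.isGloballyGenerated_pullback (compIdeal E hE).subschemeι M hgg)
  have hg0 : Curv2.genus k (compIdeal E hE).subscheme = 0 :=
    Nat.le_zero.mp ((genus_sub_le k X hdim.le _).trans_eq hg)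
  rw [h1, hg0, coe_support_compIdeal] at h2
  have h3 : (0 : ℤ) ≤ 2 * ((0 : ℕ) : ℤ) - 2 + (spec X p E : ℤ) := h2
  have h4 : (2 : ℤ) ≤ (spec X p E : ℤ) := by
    push_cast at h3 ⊢
    linarith
  exact_mod_cast h4

/-- The twisted dualizing module of the statements. -/
theorem tw_of_dualizing (k : Type u) [Field k] [IsAlgClosed k] (X : Scheme.{u}) [X.Over (Spec (CommRingCat.of k))]
    [IsProper (X ↘ (Spec (CommRingCat.of k)))] [IsReduced X] [ConnectedSpace X]
    (hdim : topologicalKrullDim X = 1) (hX : Curv2.AtWorstNodal k X) {n : ℕ}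
    {p : Fin n → X} (hp : Pts k n p) (N : X.Modules)
    (hN : ClSub.IsInverseOf N (ClSub.idealMod (Scheme.IdealSheafData.vanishingIdeal (ptsCl hp.cl))))
    [DCoh.HasRpush (X ↘ (Spec (CommRingCat.of k)))] (h : DCoh.RpushPreservesQCoh (X ↘ (Spec (CommRingCat.of k))))
    [DCoh.HasShriek (X ↘ (Spec (CommRingCat.of k))) h]
    (OY : DCoh.DQCoh (Spec (CommRingCat.of k)))
    (hOY : Nonempty (OY.obj ≅ DCoh.inD (Spec (CommRingCat.of k)) (Coh.structureModule (Spec (CommRingCat.of k)))))
    (M : X.Modules) (hM : Nonempty (M ≅ CohB1.tensorMod (DCoh.dualizingMod (X ↘ (Spec (CommRingCat.of k))) h OY 1) N)) :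
    Tw k X hp (DCoh.dualizingMod (X ↘ (Spec (CommRingCat.of k))) h OY 1) M :=
  { hw := Groth.Agent.CurvesC.DualNodal.isInvertible k h OY hdim (finrank_zero k X) hX hOY
    hpair := Groth.Agent.CurvesC.DualNodal.exists_isPair k h OY hdim hOY
    hM := ⟨N, hN, hM⟩ }

end K326.SemiMain
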