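import Groth.Agent.CurvSt.K900.UnptField
import Groth.Agent.TFOne.K975.Beta

/-!
# Contractions and dualizing modules, curves of pure dimension one
-/

set_option autoImplicit false
set_option maxHeartbeats 400000
universe u
open CategoryTheory CategoryTheory.Limits AlgebraicGeometry TopologicalSpace Opposite

namespace K326.GorContr

open Groth.Agent Groth.Agent.CurvesC.DualCount K900.Comp K900.TopArg K900.Loc K900.Acyc K900.Key2 K900.Key3
open Groth.Agent.Fdesc.LocGen (IsGen res ores app_res res_smul isInvertible_iff isInvertible_pullback)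
open Groth.Agent.VarietyA.StalkCrit Groth.Agent.CycB.StalkExact

section Iso

variable {X : Scheme.{u}} {L M : X.Modules} (φ : L ⟶ M)

theorem mono_of_W [IsReduced X] [NoetherianSpace X] (hL : PicF.IsInvertible L) (hM : PicF.IsInvertible M)
    (h : ∀ C : irreducibleComponents (X : Type u), C.2.1.genericPoint ∈ W φ) : Mono φ := by
  refine mono_of_app_injective _ fun U => ?_
  rw [injective_iff_map_eq_zero]
  intro t ht
  refine Groth.Agent.Ega1.SubSheaf.section_ext L _ _ fun p hp => ?_
  obtain ⟨V, hV, hxV, hVU, e, f, a, he, hf, ha⟩ := exists_gens hL hM φ hp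
  refine ⟨V, hVU, hxV, ?_⟩
  obtain ⟨b, hb⟩ := he.exists_eq (res L hVU t)
  have h1 : φ.app V (res L hVU t) = 0 := by rw [app_res, ht, map_zero]
  rw [hb, Scheme.Modules.Hom.app_smul, ha, smul_smul] at h1
  have h2 : b * a = 0 := hf.ext (by rw [h1, zero_smul])
  have h3 : b = 0 := by
    rw [← AlgebraicGeometry.basicOpen_eq_bot_iff, eq_bot_iff]
    intro y hy
    obtain ⟨C, -, hC⟩ := exists_gp_mem (G := Set.univ) (X.basicOpen b).2 (by rw [un_univ]; trivial) hy
    have h4 : C.2.1.genericPoint ∈ X.basicOpen (b * a) := by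
      rw [Scheme.basicOpen_mul]
      exact ⟨hC, (mem_W_iff φ he hf ha (X.basicOpen_le _ hC)).mp (h C)⟩
    rw [h2, Scheme.basicOpen_zero] at h4
    exact h4.elim
  change res L hVU t = res L hVU 0
  rw [hb, h3, zero_smul, map_zero]

theorem surjective_stalk {x : X} (hx : x ∈ W φ) : Function.Surjective (stalkLin φ x) := by
  obtain ⟨U, e, hxU, he, hφ⟩ := hx
  refine (Groth.Agent.VarietyB.UnitStalk.stalkLin_bijective_of_app φ U (fun V hV => ?_) hxU).2
  have h1 := he.res hV
  have h2 : IsGen (φ.app V (res L hV e)) := by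
    rw [app_res]
    exact hφ.res hV
  constructor
  · rw [injective_iff_map_eq_zero]
    intro t ht
    obtain ⟨b, rfl⟩ := h1.exists_eq t
    rw [Scheme.Modules.Hom.app_smul] at ht
    have h3 : b = 0 := h2.ext (by rw [ht, zero_smul])
    rw [h3, zero_smul]
  · intro t
    obtain ⟨b, rfl⟩ := h2.exists_eq t
    exact ⟨b • res L hV e, Scheme.Modules.Hom.app_smul _ _ _⟩

end Iso

section Field

variable {X : Scheme.{u}} (k : Type u) [Field k] [X.Over (Spec (CommRingCat.of k))]
  [IsProper (X ↘ (Spec (CommRingCat.of k)))] [IsNoetherian X] [IsReduced X]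

theorem isIso_of_W (hdim : topologicalKrullDim X ≤ 1)
    {L M : X.Modules} (hL : PicF.IsInvertible L) (hM : PicF.IsInvertible M) (φ : L ⟶ M)
    (h : ∀ C : irreducibleComponents (X : Type u), C.2.1.genericPoint ∈ W φ)
    (he : Curv2.euler k X M ≤ Curv2.euler k X L) : IsIso φ := by
  have := mono_of_W φ hL hM h
  refine K975.Euler.isIso_of_euler_le k hdim (Groth.Agent.VarietyA.CurveFin.isCoh_of_isInvertible hL)
    (Groth.Agent.VarietyA.CurveFin.isCoh_of_isInvertible hM) φ (fun ξ hξ => ?_) he
  rw [← K975.Beta.genericPoint_comp hξ]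
  exact surjective_stalk φ (h _)

end Field

/-- If the contracted components in `T` do not meet the other components then `T` is empty. -/
theorem empty_of_disjoint {X Y : Scheme.{u}} [NoetherianSpace X] [NoetherianSpace Y] (c : X ⟶ Y)
    (hcl : IsClosedMap c.base) (hs : Function.Surjective c.base)
    (hconn : ∀ y : Y, _root_.IsPreconnected (c.base ⁻¹' {y}))
    (hpure : ∀ Z ∈ irreducibleComponents (Y : Type u), topologicalKrullDim Z = 1)
    (T : Set (irreducibleComponents (X : Type u))) (hT : ∀ C ∈ T, Ctr c C)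
    (hd : Disjoint (un Tᶜ) (un T)) : T = ∅ := by
  by_contra hne
  obtain ⟨C, hC⟩ := Set.nonempty_iff_ne_empty.mpr hne
  have hcov : un Tᶜ ∪ un T = Set.univ := by
    rw [← un_union, Set.compl_union_self, un_univ]
  -- the image of `T`
  have hA : IsClosed (c.base '' un T) := hcl _ (isClosed_un T)
  have hB : IsClosed (c.base '' un Tᶜ) := hcl _ (isClosed_un Tᶜ)
  have hAB : c.base '' un T = (c.base '' un Tᶜ)ᶜ := by
    ext y
    constructor
    · rintro ⟨x, hx, rfl⟩ ⟨x', hx', hxx⟩
      have h1 := hconn (c.base x)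
      have h2 : c.base ⁻¹' {c.base x} ⊆ un T ∪ un Tᶜ := by
        rw [Set.union_comm, hcov]; exact Set.subset_univ _
      obtain ⟨z, -, hz⟩ := isPreconnected_closed_iff.mp h1 _ _ (isClosed_un T) (isClosed_un Tᶜ) h2
        ⟨x, rfl, hx⟩ ⟨x', hxx, hx'⟩
      exact Set.disjoint_left.mp hd hz.2 hz.1
    · intro hy
      obtain ⟨x, rfl⟩ := hs y
      have : x ∈ un Tᶜ ∪ un T := by rw [hcov]; trivial
      rcases this with h | h
      · exact (hy ⟨x, h, rfl⟩).elim
      · exact ⟨x, h, rfl⟩
  have hAo : IsOpen (c.base '' un T) := by rw [hAB]; exact hB.isOpen_compl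
  -- the point
  let y := c.base C.2.1.genericPoint
  have hyA : y ∈ c.base '' un T := ⟨_, gp_mem_un_iff.mpr hC, rfl⟩
  let D := irreducibleComponent y
  have hD : D ∈ irreducibleComponents (Y : Type u) := irreducibleComponent_mem_irreducibleComponents y
  obtain ⟨η, hη⟩ := QuasiSober.sober hD.1 (isClosed_of_mem_irreducibleComponents D hD)
  have hηy : η ⤳ y := hη.specializes mem_irreducibleComponent
  have hηA : η ∈ c.base '' un T := hηy.mem_open hAo hyA
  obtain ⟨x, hx, hxη⟩ := hηA
  obtain ⟨C', hC', hxC'⟩ := mem_un.mp hx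
  have hη' : η = c.base C'.2.1.genericPoint := by rw [← hxη]; exact hT C' hC' x hxC'
  have hηcl : IsClosed ({η} : Set Y) := by
    have h1 : c.base '' C'.1 = {η} := by
      ext z
      constructor
      · rintro ⟨w, hw, rfl⟩
        rw [hT C' hC' w hw, hη']
        rfl
      · rintro rfl
        exact ⟨x, hxC', hxη⟩
    rw [← h1]
    exact hcl _ (isClosed_of_mem_irreducibleComponents C'.1 C'.2)
  have hDη : D = {η} := by
    rw [← hη.def, hηcl.closure_eq]
  have h1 := hpure D hD
  rw [hDη] at h1
  have h2 : topologicalKrullDim ({η} : Set Y) ≤ 0 := topologicalKrullDim_zero_of_discreteTopology _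
  rw [h1] at h2
  exact absurd h2 (by norm_num)

section Main

variable {X Y : Scheme.{u}} (c : X ⟶ Y) (k : Type u) [Field k] [X.Over (Spec (CommRingCat.of k))]
  [Y.Over (Spec (CommRingCat.of k))]
  (hc : c ≫ (Y ↘ Spec (CommRingCat.of k)) = X ↘ Spec (CommRingCat.of k))
  [IsProper (X ↘ (Spec (CommRingCat.of k)))] [IsProper (Y ↘ (Spec (CommRingCat.of k)))]
  [IsNoetherian X] [IsNoetherian Y] [IsReduced X]

include hc in
/-- **Contractions and dualizing modules**, pure case. -/
theorem nonempty_iso (hdim : topologicalKrullDim X = 1) (hdimY : topologicalKrullDim Y = 1)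
    (hpure : ∀ Z ∈ irreducibleComponents (X : Type u), topologicalKrullDim Z = 1)
    (hpureY : ∀ Z ∈ irreducibleComponents (Y : Type u), topologicalKrullDim Z = 1)
    (hu : IsIso (ClSub.unitToPush c)) (hO : LocVan c (Coh.structureModule X))
    {w : X.Modules} (hw : PicF.IsInvertible w) {t : Coh.HH X w 1 →ₗ[k] k} (ht : IsPair k t)
    {wY : Y.Modules} (hwY : PicF.IsInvertible wY) {tY : Coh.HH Y wY 1 →ₗ[k] k} (htY : IsPair k tY)
    (hdeg : ∀ C, 0 ≤ Groth.Agent.S1641.degC k X 1 w C) :
    Nonempty ((Scheme.Modules.pullback c).obj wY ≅ w) := by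
  have hP := K900.FieldThm.isProper_c c k hc
  have hN := K900.UnptField.isInvertible_unit X
  have hNY := K900.UnptField.isInvertible_of_iso (asIso (ClSub.unitToPush c)) (K900.UnptField.isInvertible_unit Y)
  have hL : PicF.IsInvertible ((Scheme.Modules.pullback c).obj wY) := isInvertible_pullback c hwY
  have hconn := K900.FieldThm.isPreconnected_fibre c hu
  have hfin : Finite (irreducibleComponents (X : Type u)) :=
    TopologicalSpace.NoetherianSpace.finite_irreducibleComponents
  obtain ⟨φ, τ, hτ⟩ := K900.Phi.exists_phi c k hc hN (K900.UnptField.lu w)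
    (Groth.Agent.Ega2.QCohLocal.isQCoh_of_isInvertible hw) ht hwY hNY (K900.UnptField.beta c wY) htY
    (edge_twist c k hc hO hwY 1)
  let T : Set (irreducibleComponents (X : Type u)) := {C | C.2.1.genericPoint ∉ W φ}
  have hctr : ∀ C ∈ T, Ctr c C := by
    intro C hC
    by_contra h
    exact hC (K900.NonVan.gp_mem_W hdim.le c c.isClosedMap hconn hwY hw φ τ hτ C h)
  have htot := K900.Tot.tot c k hc hdim hdimY hpure hu hN hw (K900.UnptField.lu w) ht hwY hNY
    (K900.UnptField.beta c wY) htY (edge_bijective_locVan c k hc hO) (edge_pullback c k hc hO hwY)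
  have hdisj : Disjoint Tᶜ T := disjoint_compl_left
  have e1 := key k hdim.le hpure φ hL hw Tᶜ T (fun C hC => by
    by_contra h
    exact hC h) (fun C hC => hC)
  have e2 : sdeg k ((Scheme.Modules.pullback c).obj wY) T = 0 :=
    finsum_mem_eq_zero_of_forall_eq_zero fun C hC => K900.DegC.degC_eq_zero k c hwY C (hctr C hC)
  have e3 : 0 ≤ sdeg k w T := finsum_nonneg fun C => finsum_nonneg fun _ => hdeg C
  have e4 : ∀ L : X.Modules, ∑ᶠ C, Groth.Agent.S1641.degC k X 1 L C = sdeg k L Tᶜ + sdeg k L T := by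
    intro L
    rw [← K900.Ineq.sdeg_union k L hdisj, Set.compl_union_self]
    exact (finsum_mem_univ _).symm
  rw [euler_quot_nonneg k hdim.le hdisj] at e1
  have e5 := htot
  rw [e4, e4, e2] at e5
  have hd : Disjoint (un Tᶜ) (un T) := by
    rw [Set.disjoint_left]
    intro x hx hx'
    have h1 : Nonempty (J Tᶜ ⊔ J T).subscheme := by
      have h2 : x ∈ Set.range (J Tᶜ ⊔ J T).subschemeι := by
        rw [Scheme.IdealSheafData.range_subschemeι, Scheme.IdealSheafData.support_sup, Closeds.coe_inf,
          Scheme.IdealSheafData.coe_support_vanishingIdeal, Scheme.IdealSheafData.coe_support_vanishingIdeal]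
        exact ⟨hx, hx'⟩
      obtain ⟨z, -⟩ := h2
      exact ⟨z⟩
    have h2 := Groth.Agent.CurvesC.TailNum.finrank_quotMod_zero_pos k X (J Tᶜ ⊔ J T)
    omega
  have hs : Function.Surjective c.base := (K900.UnptField.surjective_of_unit c hu).1
  have hT : T = ∅ := empty_of_disjoint c c.isClosedMap hs hconn hpureY T hctr hd
  have hW : ∀ C : irreducibleComponents (X : Type u), C.2.1.genericPoint ∈ W φ := by
    intro C
    by_contra h
    have : C ∈ T := h
    rw [hT] at this
    exact this
  have hiso : IsIso φ := by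
    refine isIso_of_W k hdim.le hL hw φ hW ?_
    rw [← K900.Tot.deg_eq_sum k hdim.le hpure hL, ← K900.Tot.deg_eq_sum k hdim.le hpure hw] at htot
    unfold Curv2.deg at htot
    omega
  exact ⟨asIso φ⟩

end Main

end K326.GorContr
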