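import Groth.Agent.Curves.K326.Clopen
import Groth.Agent.Curves.K326.GorContr
import Groth.Agent.Curves.K326.SemiMain
import Groth.Agent.Curves.K314.GorInv
import Groth.Agent.CurvesC.CanonGG
import Groth.Agent.CurvesC.DualNodal
import Groth.Agent.CurvesC.PointScheme
import Groth.Agent.CurvSt.K896.Contr
import Groth.Agent.CurvesB.VanAsm464
import Groth.Agent.CycB.PullLen
import Groth.Agent.TopDim.K284.Basic
import Groth.Agent.Ega3B.TensRestrict
import Groth.Agent.Ega2.GlobGenCrit
import Groth.Agent.S0341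
import Groth.Agent.LoccohA.GorBC
import Groth.Agent.CurvSt.K900.DualBasic
import Groth.Agent.Ega3B.PullTensor

/-!
# Contractions and dualizing modules of Gorenstein curves
-/

set_option autoImplicit false
set_option maxHeartbeats 400000
universe u
open CategoryTheory CategoryTheory.Limits AlgebraicGeometry TopologicalSpace Opposite

namespace K326.GorAsm

open Groth.Agent Groth.Agent.CurvesC.DualCount K326.Clopen K900.Acyc

section Top

/-- The isolated closed points. -/
def isol (X : Type u) [TopologicalSpace X] : Set X := {x | IsOpen ({x} : Set X) ∧ IsClosed ({x} : Set X)}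

variable {X : Type u} [TopologicalSpace X]

theorem irreducibleComponent_eq {x : X} (hx : x ∈ isol X) : irreducibleComponent x = {x} := by
  apply Set.Subset.antisymm
  · intro y hy
    by_contra hne
    obtain ⟨z, -, hz, hz'⟩ := isIrreducible_irreducibleComponent.2 {x} {x}ᶜ hx.1 hx.2.isOpen_compl
      ⟨x, mem_irreducibleComponent, rfl⟩ ⟨y, hy, hne⟩
    exact hz' hz
  · rintro _ rfl
    exact mem_irreducibleComponent

theorem finite_isol [NoetherianSpace X] : (isol X).Finite := by
  have hfin := NoetherianSpace.finite_irreducibleComponents (α := X)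
  refine Set.Finite.of_injOn (f := irreducibleComponent) (t := irreducibleComponents X)
    (fun x _ => irreducibleComponent_mem_irreducibleComponents x) (fun x hx y hy h => ?_) hfin
  rw [irreducibleComponent_eq hx, irreducibleComponent_eq hy] at h
  exact Set.singleton_injective h

theorem isOpen_isol : IsOpen (isol X) := by
  have : isol X = ⋃ x ∈ isol X, {x} := by simp
  rw [this]
  exact isOpen_biUnion fun x hx => hx.1

theorem isClosed_isol [NoetherianSpace X] : IsClosed (isol X) := by
  have : isol X = ⋃ x ∈ isol X, {x} := by simp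
  rw [this]
  exact finite_isol.isClosed_biUnion fun x hx => hx.2

end Top

/-- A Noetherian scheme of dimension at most one without isolated points has pure dimension one. -/
theorem pure_of_no_isolated (X : Scheme.{u}) [IsNoetherian X] (hdim : topologicalKrullDim X ≤ 1)
    (h : ∀ x : X, x ∉ isol X) (Z : Set X) (hZ : Z ∈ irreducibleComponents (X : Type u)) :
    topologicalKrullDim Z = 1 := by
  have h1 : topologicalKrullDim Z ≤ 1 := (topologicalKrullDim_subspace_le X Z).trans hdim
  by_contra hcon
  have h2 : topologicalKrullDim Z ≤ 0 := by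
    have hlt := lt_of_le_of_ne h1 hcon
    cases h : topologicalKrullDim Z with
    | bot => exact bot_le
    | coe n =>
      rw [h] at hlt
      have h3 : n < 1 := by exact_mod_cast hlt
      have h4 : n = 0 := Order.lt_one_iff.mp h3
      rw [h4]; rfl
  obtain ⟨x, hx, hxc, -⟩ := Groth.Agent.CurvesB.DimPts.exists_of_component Z hZ h2
  have hfin := NoetherianSpace.finite_irreducibleComponents (α := (X : Type u))
  have hW : IsClosed (⋃₀ (irreducibleComponents (X : Type u) \ {Z})) := by
    rw [Set.sUnion_eq_biUnion]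
    exact hfin.sdiff.isClosed_biUnion fun W hW ↦ isClosed_of_mem_irreducibleComponents W hW.1
  have hcompl : Z = (⋃₀ (irreducibleComponents (X : Type u) \ {Z}))ᶜ := by
    apply Set.eq_of_subset_of_subset
    · rintro y hy ⟨W, ⟨hW1, hW2⟩, hyW⟩
      apply hW2
      have h3 : Z ⊆ W := by
        rw [hx] at hy
        rw [Set.mem_singleton_iff.mp hy] at hyW
        rw [hx, Set.singleton_subset_iff]; exact hyW
      exact (h3.antisymm (hZ.2 hW1.1 h3)).symm
    · intro y hy
      by_contra hyZ
      apply hy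
      exact ⟨irreducibleComponent y, ⟨irreducibleComponent_mem_irreducibleComponents y, fun h4 => hyZ (by
        rw [Set.mem_singleton_iff] at h4
        rw [← h4]
        exact mem_irreducibleComponent)⟩, mem_irreducibleComponent⟩
  have hopen : IsOpen ({x} : Set X) := by
    rw [← hx, hcompl]
    exact hW.isOpen_compl
  exact h x ⟨hopen, by rw [← hx]; exact isClosed_of_mem_irreducibleComponents Z hZ⟩

section Opens

variable {X : Scheme.{u}} {U : X.Opens}

theorem mem_isol_iff (hU : IsClosed (U : Set X)) (x : (U : Scheme.{u})) : x ∈ isol (U : Scheme.{u}) ↔ U.ι x ∈ isol X := by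
  have he : Topology.IsClosedEmbedding U.ι := ⟨U.ι.isOpenEmbedding.isEmbedding, by
    rw [Scheme.Opens.range_ι]; exact hU⟩
  have himg : U.ι '' ({x} : Set (U : Scheme.{u})) = {U.ι x} := Set.image_singleton
  constructor
  · rintro ⟨h1, h2⟩
    refine ⟨?_, ?_⟩
    · rw [← himg]; exact U.ι.isOpenEmbedding.isOpenMap _ h1
    · rw [← himg]; exact he.isClosedMap _ h2
  · rintro ⟨h1, h2⟩
    have hpre : ({x} : Set (U : Scheme.{u})) = U.ι ⁻¹' {U.ι x} := by
      rw [← himg, Set.preimage_image_eq _ U.ι.injective]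
    refine ⟨?_, ?_⟩
    · rw [hpre]; exact h1.preimage U.ι.continuous
    · rw [hpre]; exact h2.preimage U.ι.continuous

theorem dim_le_of_opens (hdim : topologicalKrullDim X ≤ 1) : topologicalKrullDim (U : Scheme.{u}) ≤ 1 :=
  (U.ι.isOpenEmbedding.isInducing.topologicalKrullDim_le).trans hdim

theorem isNoetherian_opens [IsNoetherian X] (U : X.Opens) : IsNoetherian (U : Scheme.{u}) := by
  have h1 : NoetherianSpace (U : Scheme.{u}) := U.ι.isOpenEmbedding.isInducing.noetherianSpace
  exact { }

theorem dim_eq_one [IsNoetherian X] (hdim : topologicalKrullDim X ≤ 1)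
    (h : ∀ Z ∈ irreducibleComponents (X : Type u), topologicalKrullDim Z = 1) [Nonempty X] :
    topologicalKrullDim X = 1 := by
  refine le_antisymm hdim ?_
  obtain ⟨x⟩ := (inferInstance : Nonempty X)
  rw [← h _ (irreducibleComponent_mem_irreducibleComponents x)]
  exact topologicalKrullDim_subspace_le _ _

end Opens

section Pair

variable {X : Scheme.{u}} (k : Type u) [Field k] [X.Over (Spec (CommRingCat.of k))]

theorem isQCoh_restrict {M : X.Modules} (hM : Coh.IsQCoh M) (U : X.Opens) : Coh.IsQCoh (M.restrict U.ι) :=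
  CohqB.LocalQC.isQCoh_restrict U.ι hM

theorem subsingleton_of_restrict {M : X.Modules} {S : X.Opens}
    (h : ∀ W : (S : Scheme.{u}).Opens, Subsingleton Γ(M.restrict S.ι, W)) (V : X.Opens) (hV : V ≤ S) :
    Subsingleton Γ(M, V) := by
  have h1 : S.ι ''ᵁ S.ι ⁻¹ᵁ V = V := by
    rw [Scheme.Hom.image_preimage_eq_opensRange_inf, Scheme.Opens.opensRange_ι]
    exact inf_eq_right.mpr hV
  have h2 : Subsingleton Γ(M, S.ι ''ᵁ S.ι ⁻¹ᵁ V) := h (S.ι ⁻¹ᵁ V)
  rwa [h1] at h2

/-- A dualizing module of a scheme of dimension zero vanishes. -/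
theorem subsingleton_of_dim_zero [NoetherianSpace X] (hdim : topologicalKrullDim X ≤ 0) {w : X.Modules}
    (hw : Coh.IsQCoh w) {t : Coh.HH X w 1 →ₗ[k] k} (ht : IsPair k t) (V : X.Opens) : Subsingleton Γ(w, V) := by
  have hn : NoetherianSpace X.toTopCat := ‹NoetherianSpace X›
  have h1 : Subsingleton (Coh.HH X w 1) :=
    @Groth.Agent.S0458.result X.toTopCat hn 0 hdim (Coh.toAb w) 1 (by omega)
  have h2 : (𝟙 w : w ⟶ w) = 0 := (ht w hw 0).unique
    (fun x => by rw [Subsingleton.elim x 0]; simp) (fun x => by rw [Subsingleton.elim x 0]; simp)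
  refine ⟨fun a b => ?_⟩
  have h3 : ∀ a : Γ(w, V), a = 0 := fun a => congr(($h2).app V a)
  rw [h3 a, h3 b]

/-- The dualizing module vanishes on the isolated points. -/
theorem vanish {U S : X.Opens} (h : Compl U S) [IsNoetherian X] (hdim : topologicalKrullDim (S : Scheme.{u}) ≤ 0)
    {w : X.Modules} (hw : Coh.IsQCoh w) {t : Coh.HH X w 1 →ₗ[k] k} (ht : IsPair k t) (V : X.Opens) (hV : V ≤ S) :
    Subsingleton Γ(w, V) := by
  obtain ⟨t', ht'⟩ := exists_isPair k h.symm hw ht
  have := isNoetherian_opens S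
  exact subsingleton_of_restrict (subsingleton_of_dim_zero k hdim (isQCoh_restrict hw S) ht') V hV

variable [IsProper (X ↘ (Spec (CommRingCat.of k)))]

/-- The dualizing module of a Gorenstein curve of pure dimension one is invertible. -/
theorem isInvertible [IsNoetherian X] (hdim : topologicalKrullDim X = 1)
    (hpure : ∀ Z ∈ irreducibleComponents (X : Type u), topologicalKrullDim Z = 1)
    (hG : ∀ x : X, LocCoh.IsGorensteinLocalRing (X.presheaf.stalk x)) {w : X.Modules}
    (hw : Coh.IsQCoh w) {t : Coh.HH X w 1 →ₗ[k] k} (ht : IsPair k t) : PicF.IsInvertible w := by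
  have hR := Dcoh.DerSch.hasRpush (X ↘ Spec (CommRingCat.of k))
  have h : DCoh.RpushPreservesQCoh (X ↘ Spec (CommRingCat.of k)) := fun K hK =>
    S0998.result (X ↘ Spec (CommRingCat.of k)) K hK
  have hs : DCoh.HasShriek (X ↘ Spec (CommRingCat.of k)) h :=
    S1766.result X (Spec (CommRingCat.of k)) (X ↘ Spec (CommRingCat.of k)) h
  have hO : Coh.IsCoh (Coh.structureModule (Spec (CommRingCat.of k))) :=
    CurvesB.UnitCoh.isCoh_structureModule _
  let OY : DCoh.DQCoh (Spec (CommRingCat.of k)) :=
    ⟨DCoh.inD _ (Coh.structureModule (Spec (CommRingCat.of k))), PerfA.QCohD.isQCohD_inD _ hO.1⟩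
  have hOY : Nonempty (OY.obj ≅ DCoh.inD (Spec (CommRingCat.of k)) (Coh.structureModule (Spec (CommRingCat.of k)))) :=
    ⟨Iso.refl _⟩
  have h1 := K314.GorInv.isInvertible_dualizingMod k X (X ↘ Spec (CommRingCat.of k)) hG
    (fun x => by have := hG x; exact S0341.result _) 1 hpure h OY hOY
  obtain ⟨t', ht'⟩ := CurvesC.DualNodal.exists_isPair k h OY hdim hOY
  obtain ⟨e, -⟩ := (K900.DualBasic.isDual_of_isPair k X ht').exists_iso (K900.DualBasic.isDual_of_isPair k X ht)
    (Ega2.QCohLocal.isQCoh_of_isInvertible h1) hw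
  exact K900.UnptField.isInvertible_of_iso e h1

/-- Degrees on the components are nonnegative if a power is globally generated. -/
theorem degC_nonneg [IsNoetherian X]
    (hpure : ∀ Z ∈ irreducibleComponents (X : Type u), topologicalKrullDim Z = 1)
    {w : X.Modules} (hw : PicF.IsInvertible w) (m : ℕ) (hm : 1 ≤ m)
    (hgg : Curv2.IsGloballyGenerated (CohB1.tensorPow w m)) (C : irreducibleComponents (X : Type u)) :
    0 ≤ S1641.degC k X 1 w C := by
  let _ : (CurvesC.CompGeom.IC X C.1 C.2).subscheme.Over (Spec (CommRingCat.of k)) :=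
    ⟨(CurvesC.CompGeom.IC X C.1 C.2).subschemeι ≫ (X ↘ (Spec (CommRingCat.of k)))⟩
  rw [K900.DegC.degC_eq k C (CurvesC.CompGeom.IC X C.1 C.2).subschemeι (CurvesC.CompGeom.range_C X C.1 C.2) rfl]
  have hP : IsProper ((CurvesC.CompGeom.IC X C.1 C.2).subscheme ↘ (Spec (CommRingCat.of k))) :=
    inferInstanceAs (IsProper ((CurvesC.CompGeom.IC X C.1 C.2).subschemeι ≫ (X ↘ (Spec (CommRingCat.of k)))))
  have hd : topologicalKrullDim (CurvesC.CompGeom.IC X C.1 C.2).subscheme = 1 := by
    rw [← VarietyB.DegComp.topologicalKrullDim_range_eq (CurvesC.CompGeom.IC X C.1 C.2).subschemeι,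
      CurvesC.CompGeom.range_C]
    exact hpure C.1 C.2
  obtain ⟨e⟩ := Ega3B.PullTensor.nonempty_pullPowIso (CurvesC.CompGeom.IC X C.1 C.2).subschemeι hw m
  have hwC := Fdesc.LocGen.isInvertible_pullback (CurvesC.CompGeom.IC X C.1 C.2).subschemeι hw
  have h1 := K326.SemiMain.deg_nonneg_of_gg k _ hd (CohB1.tensorPow ((Scheme.Modules.pullback
    (CurvesC.CompGeom.IC X C.1 C.2).subschemeι).obj w) m)
    (K900.UnptField.isInvertible_of_iso e (Fdesc.LocGen.isInvertible_pullback _
      (Fdesc.LocGen.isInvertible_tensorPow hw m)))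
    (Ega2.GlobGenCrit.isGloballyGenerated_of_iso e
      (VarietyB.GGStalk.isGloballyGenerated_pullback _ _ hgg))
  rw [CurvesC.CanonGG.deg_pow k _ hd.le hwC] at h1
  have hm' : (0 : ℤ) < m := by exact_mod_cast hm
  exact nonneg_of_mul_nonneg_right h1 hm'

end Pair

section Restr

variable {X : Scheme.{u}}

theorem nonempty_restrict_tensorPow (F : X.Modules) (U : X.Opens) (n : ℕ) :
    Nonempty ((CohB1.tensorPow F n).restrict U.ι ≅ CohB1.tensorPow (F.restrict U.ι) n) := by
  induction n with
  | zero => exact ⟨Scheme.Modules.restrictUnitIso U.ι⟩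
  | succ n ih =>
    obtain ⟨e⟩ := ih
    exact ⟨Ega3B.TensRestrict.restrictIso U.ι _ _ ≪≫ Ega2.Tens.mapTIso e (Iso.refl _)⟩

theorem isGloballyGenerated_restrict {F : X.Modules} (U : X.Opens) (h : Curv2.IsGloballyGenerated F) :
    Curv2.IsGloballyGenerated (F.restrict U.ι) :=
  Ega2.GlobGenCrit.isGloballyGenerated_of_iso ((Scheme.Modules.restrictFunctorIsoPullback U.ι).app F).symm
    (VarietyB.GGStalk.isGloballyGenerated_pullback _ _ h)

theorem gg_pow_restrict {F : X.Modules} (U : X.Opens) {n : ℕ} (h : Curv2.IsGloballyGenerated (CohB1.tensorPow F n)) :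
    Curv2.IsGloballyGenerated (CohB1.tensorPow (F.restrict U.ι) n) := by
  obtain ⟨e⟩ := nonempty_restrict_tensorPow F U n
  exact Ega2.GlobGenCrit.isGloballyGenerated_of_iso e (isGloballyGenerated_restrict U h)

theorem gorenstein_opens (hG : ∀ x : X, LocCoh.IsGorensteinLocalRing (X.presheaf.stalk x)) (U : X.Opens)
    (x : (U : Scheme.{u})) : LocCoh.IsGorensteinLocalRing ((U : Scheme.{u}).presheaf.stalk x) := by
  have e : X.presheaf.stalk (U.ι x) ≃+* (U : Scheme.{u}).presheaf.stalk x :=
    (asIso (U.ι.stalkMap x)).commRingCatIsoToRingEquiv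
  exact LoccohA.GorBC.isGorensteinLocalRing_of_ringEquiv e (hG (U.ι x))

end Restr

end K326.GorAsm
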