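import Groth.Agent.Divis.CartierStalk
import Groth.Agent.CurvesC.DualIdeals
import Groth.Agent.CurvesC.TailGeom
import Groth.Agent.S2121

/-!
# Stalks of vanishing ideals

* `exists_specializes_open`: a point of the closure of an open subset is a specialization of a point of it.
* `isReduced_stalk_quotient`: `O_x / I_x` is reduced for `I` the vanishing ideal of a closed subset.
* `stalkIdeal_vanishingIdeal_eq_maximalIdeal`: `I_x = m_x` if `x` is isolated in the closed set (for specialization).
* `complIdeal_eq`: on a reduced locally Noetherian scheme the ideal of the closure of the complement is the vanishing ideal.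
-/

set_option autoImplicit false
universe u
open CategoryTheory CategoryTheory.Limits AlgebraicGeometry TopologicalSpace Opposite IsLocalRing

namespace K326.StalkVan

open Groth.Agent.Divis.CartierBasic Groth.Agent.CurvesC.TailGeom

variable {X : Scheme.{u}}

theorem exists_specializes_open [IsLocallyNoetherian X] (U : X.Opens) (x : X) (hx : x ∈ closure (U : Set X)) :
    ∃ z ∈ U, z ⤳ x := by
  obtain ⟨z, hz⟩ := Groth.Agent.S2121.exists_specializes U.ι x (by
    have : Set.range U.ι.base = (U : Set X) := Scheme.Opens.range_ι U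
    rw [this]; exact hx)
  exact ⟨z.1, z.2, hz⟩

/-- The prime of the local ring corresponding to a generization. -/
theorem exists_prime {x z : X} (h : z ⤳ x) : ∃ q : PrimeSpectrum (X.presheaf.stalk x), X.fromSpecStalk x q = z := by
  have h1 : z ∈ Set.range (X.fromSpecStalk x) := by
    rw [Scheme.range_fromSpecStalk]
    exact h
  exact h1

theorem isReduced_stalk_quotient (S : Closeds X) (x : X) :
    _root_.IsReduced (X.presheaf.stalk x ⧸ stalkIdeal (Scheme.IdealSheafData.vanishingIdeal S) x) := by
  by_cases hx : x ∈ S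
  · have hred : IsReduced (Scheme.IdealSheafData.vanishingIdeal S).subscheme :=
      Groth.Agent.Ega1.ReducedSub.isReduced_subscheme_vanishingIdeal _
    have hr : x ∈ Set.range (Scheme.IdealSheafData.vanishingIdeal S).subschemeι := by
      rw [Scheme.IdealSheafData.range_subschemeι, Scheme.IdealSheafData.coe_support_vanishingIdeal]
      exact hx
    obtain ⟨y, hy⟩ := hr
    subst hy
    exact isReduced_of_injective _ (Groth.Agent.Divis.CartierStalk.stalkQuotEquiv _ y).injective
  · have h1 : stalkIdeal (Scheme.IdealSheafData.vanishingIdeal S) x = ⊤ := by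
      rw [← notMem_support_iff_stalkIdeal_eq_top, ← SetLike.mem_coe,
        Scheme.IdealSheafData.coe_support_vanishingIdeal]
      exact hx
    have : Subsingleton (X.presheaf.stalk x ⧸ stalkIdeal (Scheme.IdealSheafData.vanishingIdeal S) x) := by
      rw [h1]; exact Ideal.Quotient.subsingleton_iff.2 rfl
    infer_instance

theorem mem_vanishing_iff (S : Closeds X) (x : X) (q : PrimeSpectrum (X.presheaf.stalk x)) :
    stalkIdeal (Scheme.IdealSheafData.vanishingIdeal S) x ≤ q.asIdeal ↔ X.fromSpecStalk x q ∈ S := by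
  rw [← fromSpecStalk_mem_support_iff, ← SetLike.mem_coe, Scheme.IdealSheafData.coe_support_vanishingIdeal]
  rfl

theorem stalkIdeal_vanishingIdeal_eq_maximalIdeal (S : Closeds X) (x : X) (hx : x ∈ S)
    (h : ∀ y ∈ S, y ⤳ x → y = x) :
    stalkIdeal (Scheme.IdealSheafData.vanishingIdeal S) x = maximalIdeal (X.presheaf.stalk x) := by
  have hred := isReduced_stalk_quotient S x
  have hrad := (Ideal.isRadical_iff_quotient_reduced _).mpr hred
  apply le_antisymm
  · have := (mem_vanishing_iff S x (closedPoint _)).mpr (by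
      rw [Scheme.fromSpecStalk_closedPoint]; exact hx)
    exact this
  · intro a ha
    apply hrad
    rw [Ideal.radical_eq_sInf, Submodule.mem_sInf]
    rintro q ⟨hq, hqp⟩
    have h1 := (mem_vanishing_iff S x ⟨q, hqp⟩).mp hq
    have h2 : X.fromSpecStalk x ⟨q, hqp⟩ ⤳ x := by
      have h3 : X.fromSpecStalk x ⟨q, hqp⟩ ∈ Set.range (X.fromSpecStalk x) := ⟨_, rfl⟩
      rw [Scheme.range_fromSpecStalk] at h3
      exact h3
    have h3 := h _ h1 h2
    have h4 : (⟨q, hqp⟩ : PrimeSpectrum (X.presheaf.stalk x)) = closedPoint _ := by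
      apply (X.fromSpecStalk x).injective
      rw [h3, Scheme.fromSpecStalk_closedPoint]
    have h5 : q = maximalIdeal (X.presheaf.stalk x) := congrArg PrimeSpectrum.asIdeal h4
    rw [h5]; exact ha

/-- On a reduced Noetherian scheme the kernel ideal of an open immersion is the vanishing ideal of its closure. -/
theorem complIdeal_eq [IsReduced X] [IsNoetherian X] (Y : Closeds X) :
    complIdeal Y = Scheme.IdealSheafData.vanishingIdeal ⟨closure (Y : Set X)ᶜ, isClosed_closure⟩ := by
  apply Scheme.IdealSheafData.ext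
  funext U
  ext b
  rw [Groth.Agent.CurvesC.DualIdeals.mem_ker_iff, Groth.Agent.CurvesC.DualIdeals.mem_vanishingIdeal_iff]
  constructor
  · intro h x hx hxb
    obtain ⟨y, hy1, hy2⟩ := mem_closure_iff.mp hx _ (X.basicOpen b).2 hxb
    exact h y hy2 hy1
  · intro h x hx
    exact h x (subset_closure hx)

theorem mul_eq_bot [IsReduced X] [IsNoetherian X] (Y : Closeds X) :
    Scheme.IdealSheafData.vanishingIdeal Y * complIdeal Y = ⊥ := by
  apply Scheme.IdealSheafData.ext
  funext U
  rw [Scheme.IdealSheafData.ideal_mul, Pi.mul_apply, Scheme.IdealSheafData.ideal_bot, Pi.bot_apply, eq_bot_iff, Ideal.mul_le]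
  intro a ha b hb
  have := Groth.Agent.CurvesC.DualIdeals.mul_eq_zero Y.isClosed U a b ha hb
  rw [this]
  exact Submodule.zero_mem _

/-- The local situation at a point common to a union of components and the closure of its complement. -/
theorem local_facts [IsReduced X] [IsNoetherian X] (Y : Closeds X) (hY : (Y : Set X) ⊆ closure (interior Y))
    (x : X) (hx : x ∈ (Y : Set X)) (hx' : x ∈ closure (Y : Set X)ᶜ) :
    ∃ I J : Ideal (X.presheaf.stalk x), stalkIdeal (Scheme.IdealSheafData.vanishingIdeal Y) x = I ∧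
      stalkIdeal (complIdeal Y) x = J ∧ _root_.IsReduced (X.presheaf.stalk x ⧸ I) ∧
      _root_.IsReduced (X.presheaf.stalk x ⧸ J) ∧ I ≠ ⊤ ∧ J ≠ ⊤ ∧ ¬ IsField (X.presheaf.stalk x ⧸ I) ∧
      ¬ IsField (X.presheaf.stalk x ⧸ J) ∧ I ≠ ⊥ ∧ J ≠ ⊥ ∧ I * J = ⊥ := by
  refine ⟨_, _, rfl, rfl, isReduced_stalk_quotient Y x, ?_, ?_, ?_, ?_, ?_, ?_, ?_, ?_⟩
  · rw [complIdeal_eq]
    exact isReduced_stalk_quotient _ x
  · rw [← mem_support_iff_stalkIdeal_ne_top, ← SetLike.mem_coe,
      Scheme.IdealSheafData.coe_support_vanishingIdeal]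
    exact hx
  · rw [complIdeal_eq, ← mem_support_iff_stalkIdeal_ne_top, ← SetLike.mem_coe,
      Scheme.IdealSheafData.coe_support_vanishingIdeal]
    exact hx'
  · intro hf
    obtain ⟨z, hz, hzx⟩ := exists_specializes_open ⟨interior (Y : Set X), isOpen_interior⟩ x (hY hx)
    have hz' : z ∈ interior (Y : Set X) := hz
    obtain ⟨q, hq⟩ := exists_prime hzx
    have h1 := (mem_vanishing_iff Y x q).mpr (by rw [hq]; exact interior_subset hz')
    have h2 := Ideal.Quotient.maximal_of_isField _ hf
    have h3 := h2.eq_of_le q.2.ne_top h1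
    have h4 : q = closedPoint _ := by
      apply PrimeSpectrum.ext
      rw [← h3]
      exact IsLocalRing.eq_maximalIdeal h2
    rw [h4, Scheme.fromSpecStalk_closedPoint] at hq
    subst hq
    obtain ⟨y, hy1, hy2⟩ := mem_closure_iff.mp hx' _ isOpen_interior hz'
    exact hy2 (interior_subset hy1)
  · intro hf
    rw [complIdeal_eq] at hf
    obtain ⟨z, hz, hzx⟩ := exists_specializes_open ⟨(Y : Set X)ᶜ, Y.isClosed.isOpen_compl⟩ x hx'
    have hz' : z ∈ (Y : Set X)ᶜ := hz
    obtain ⟨q, hq⟩ := exists_prime hzx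
    have h1 := (mem_vanishing_iff ⟨closure (Y : Set X)ᶜ, isClosed_closure⟩ x q).mpr
      (by rw [hq]; exact subset_closure hz')
    have h2 := Ideal.Quotient.maximal_of_isField _ hf
    have h3 := h2.eq_of_le q.2.ne_top h1
    have h4 : q = closedPoint _ := by
      apply PrimeSpectrum.ext
      rw [← h3]
      exact IsLocalRing.eq_maximalIdeal h2
    rw [h4, Scheme.fromSpecStalk_closedPoint] at hq
    subst hq
    exact hz' hx
  · intro h0
    obtain ⟨z, hz, hzx⟩ := exists_specializes_open ⟨(Y : Set X)ᶜ, Y.isClosed.isOpen_compl⟩ x hx'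
    have hz' : z ∈ (Y : Set X)ᶜ := hz
    obtain ⟨q, hq⟩ := exists_prime hzx
    have h1 := (mem_vanishing_iff Y x q).mp (by rw [h0]; exact bot_le)
    rw [hq] at h1
    exact hz' h1
  · intro h0
    rw [complIdeal_eq] at h0
    obtain ⟨z, hz, hzx⟩ := exists_specializes_open ⟨interior (Y : Set X), isOpen_interior⟩ x (hY hx)
    have hz' : z ∈ interior (Y : Set X) := hz
    obtain ⟨q, hq⟩ := exists_prime hzx
    have h1 := (mem_vanishing_iff ⟨closure (Y : Set X)ᶜ, isClosed_closure⟩ x q).mp (by rw [h0]; exact bot_le)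
    rw [hq] at h1
    have h1' : z ∈ closure (Y : Set X)ᶜ := h1
    obtain ⟨y, hy1, hy2⟩ := mem_closure_iff.mp h1' _ isOpen_interior hz'
    exact hy2 (interior_subset hy1)
  · rw [← stalkIdeal_mul, mul_eq_bot, stalkIdeal_bot]

end K326.StalkVan
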