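import Groth.Agent.Curves.K326.NodeInterAlg
import Groth.Agent.Curves.K326.StalkVan
import Groth.Agent.CurvesC.NodalLen
import Groth.Agent.CurvesC.CurveCoh

/-!
# At-worst-nodal curves: complementary unions of components meet transversally

`stalkIdeal_sup_eq`: at a point common to `Y` and the closure of its complement, the sum of the two ideals is the
maximal ideal.
-/

set_option autoImplicit false
universe u
open CategoryTheory CategoryTheory.Limits AlgebraicGeometry TopologicalSpace Opposite IsLocalRing

attribute [local instance] Curv2.resAlgebra Curv2.stalkAlgebra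

namespace K326.NodeInter

open Groth.Agent.Divis.CartierBasic Groth.Agent.CurvesC.TailGeom Groth.Agent.CurvesB
open K326.StalkVan K326.NodeInterAlg

variable {X : Scheme.{u}}

/-- A point common to `Y` and the closure of its complement has a domain as local ring only if ... never. -/
theorem not_isDomain [IsReduced X] [IsNoetherian X] (Y : Closeds X) (hY : (Y : Set X) ⊆ closure (interior Y))
    (x : X) (hx : x ∈ (Y : Set X)) (hx' : x ∈ closure (Y : Set X)ᶜ) : ¬ IsDomain (X.presheaf.stalk x) := by
  intro hd
  obtain ⟨I, J, -, -, -, -, -, -, -, -, hI0, hJ0, hIJ⟩ := local_facts Y hY x hx hx'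
  rcases Ideal.mul_eq_bot.mp hIJ with h | h
  · exact hI0 h
  · exact hJ0 h

variable (k : Type u) [Field k] [X.Over (Spec (CommRingCat.of k))]

/-- Transversality at a node. -/
theorem stalkIdeal_sup_eq_of_isNode [IsReduced X] [IsNoetherian X]
    [LocallyOfFiniteType (X ↘ Spec (CommRingCat.of k))] (Y : Closeds X)
    (hY : (Y : Set X) ⊆ closure (interior Y)) (x : X) (hn : Curv2.IsNode k X x)
    (hx : x ∈ (Y : Set X)) (hx' : x ∈ closure (Y : Set X)ᶜ) :
    stalkIdeal (Scheme.IdealSheafData.vanishingIdeal Y) x ⊔ stalkIdeal (complIdeal Y) x =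
      maximalIdeal (X.presheaf.stalk x) := by
  obtain ⟨I, J, hI, hJ, h1, h2, h3, h4, h5, h6, h7, h8, h9⟩ := local_facts Y hY x hx hx'
  rw [hI, hJ]
  obtain ⟨-, xb, rfl, h⟩ := hn
  have : IsLocallyNoetherian (Curv2.bc k X (AlgebraicClosure k)) :=
    NodeSch2.isLocallyNoetherian_of_locallyOfFiniteType (Curv2.bcSnd k X (AlgebraicClosure k))
  let _ : Algebra (X.presheaf.stalk (Curv2.bcFst k X (AlgebraicClosure k) xb))
      ((Curv2.bc k X (AlgebraicClosure k)).presheaf.stalk xb) :=
    ((Curv2.bcFst k X (AlgebraicClosure k)).stalkMap xb).hom.toAlgebra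
  have hfl : Module.Flat (X.presheaf.stalk (Curv2.bcFst k X (AlgebraicClosure k) xb))
      ((Curv2.bc k X (AlgebraicClosure k)).presheaf.stalk xb) := by
    have : Flat (Curv2.bcFst k X (AlgebraicClosure k)) := by
      unfold Curv2.bcFst
      infer_instance
    exact Flat.stalkMap (Curv2.bcFst k X (AlgebraicClosure k)) xb
  have hloc : IsLocalHom (algebraMap (X.presheaf.stalk (Curv2.bcFst k X (AlgebraicClosure k) xb))
      ((Curv2.bc k X (AlgebraicClosure k)).presheaf.stalk xb)) :=
    inferInstanceAs (IsLocalHom ((Curv2.bcFst k X (AlgebraicClosure k)).stalkMap xb).hom)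
  exact sup_eq_maximalIdeal h I J h3 h4 h5 h6 h7 h8 h9

/-- Points common to `Y` and the closure of its complement are closed (dimension at most one). -/
theorem isClosed_of_mem [IsReduced X] [IsNoetherian X] (hdim : topologicalKrullDim X ≤ 1) (Y : Closeds X)
    (hY : (Y : Set X) ⊆ closure (interior Y))
    (x : X) (hx : x ∈ (Y : Set X)) (hx' : x ∈ closure (Y : Set X)ᶜ) : IsClosed ({x} : Set X) := by
  obtain ⟨z, hz, hzx⟩ := exists_specializes_open ⟨interior (Y : Set X), isOpen_interior⟩ x (hY hx)
  have hz' : z ∈ interior (Y : Set X) := hz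
  have hne : z ≠ x := by
    rintro rfl
    obtain ⟨y, hy1, hy2⟩ := mem_closure_iff.mp hx' _ isOpen_interior hz'
    exact hy2 (interior_subset hy1)
  by_contra hcl
  -- `x` is not closed: a chain of length two
  have hlt1 : closure ({x} : Set X) ≠ {x} := fun h => hcl (h ▸ isClosed_closure)
  obtain ⟨w, hw, hwx⟩ : ∃ w ∈ closure ({x} : Set X), w ≠ x := by
    by_contra hcon
    push Not at hcon
    exact hlt1 (Set.Subset.antisymm (fun w hw => hcon w hw) subset_closure)
  have hxw : x ⤳ w := specializes_iff_mem_closure.mpr hw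
  let a : IrreducibleCloseds X := ⟨closure {w}, isIrreducible_singleton.closure, isClosed_closure⟩
  let b : IrreducibleCloseds X := ⟨closure {x}, isIrreducible_singleton.closure, isClosed_closure⟩
  let c : IrreducibleCloseds X := ⟨closure {z}, isIrreducible_singleton.closure, isClosed_closure⟩
  have hab : a < b := by
    refine lt_of_le_of_ne (specializes_iff_closure_subset.mp hxw) fun h => hwx ?_
    have h1 : closure {w} = closure {x} := congrArg IrreducibleCloseds.carrier h
    exact (inseparable_iff_closure_eq.mpr h1).eq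
  have hbc : b < c := by
    refine lt_of_le_of_ne (specializes_iff_closure_subset.mp hzx) fun h => hne ?_
    have h1 : closure {x} = closure {z} := congrArg IrreducibleCloseds.carrier h
    exact (inseparable_iff_closure_eq.mpr h1.symm).eq
  let s : LTSeries (IrreducibleCloseds X) :=
    { length := 2
      toFun := ![a, b, c]
      step := by
        intro i
        fin_cases i
        · exact hab
        · exact hbc }
  have h2 : ((2 : ℕ) : WithBot ℕ∞) ≤ topologicalKrullDim X := Order.LTSeries.length_le_krullDim s
  have h3 : ((2 : ℕ) : WithBot ℕ∞) ≤ ((1 : ℕ) : WithBot ℕ∞) := h2.trans hdim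
  exact absurd (by exact_mod_cast h3 : (2 : ℕ) ≤ 1) (by decide)

/-- Transversality on an at-worst-nodal curve. -/
theorem stalkIdeal_sup_eq [IsReduced X] [IsNoetherian X]
    [LocallyOfFiniteType (X ↘ Spec (CommRingCat.of k))] (hX : Curv2.AtWorstNodal k X)
    (hdim : topologicalKrullDim X ≤ 1) (Y : Closeds X)
    (hY : (Y : Set X) ⊆ closure (interior Y)) (x : X)
    (hx : x ∈ (Y : Set X)) (hx' : x ∈ closure (Y : Set X)ᶜ) :
    stalkIdeal (Scheme.IdealSheafData.vanishingIdeal Y) x ⊔ stalkIdeal (complIdeal Y) x =
      maximalIdeal (X.presheaf.stalk x) := by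
  rcases hX x (isClosed_of_mem hdim Y hY x hx hx') with h | h
  · exfalso
    have := NodeSch2.isRegularLocalRing_of_exists k x h
    exact not_isDomain Y hY x hx hx' (Groth.Agent.CalgA.RegBasic.isDomain _)
  · exact stalkIdeal_sup_eq_of_isNode k Y hY x h hx hx'

end K326.NodeInter
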