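import Groth.Agent.Curves.K326.PtsDiv
import Groth.Agent.Curves.K326.NodeInter
import Groth.Agent.Dix.IdealModCartier
import Groth.Agent.Models.H74.H0Card
import Groth.Agent.CurvesC.DegIso
import Mathlib.Data.Set.Card.Arithmetic

/-!
# Degrees on unions of components of a nodal curve: marked points and nodes

* `finrank_quotMod_eq_ncard`: `h⁰(O/I)` is the number of points of the zero scheme if all `I_x` are maximal ideals.
* `deg_restrict_twist`: `deg (w ⊗ O(∑ p_i))|_Y = deg w|_Y + #{i | p_i ∈ Y}`.
* `finrank_inter`: `h⁰(O_{Y ∩ Y'}) = #(Y ∩ Y')` for complementary unions of components of an at-worst-nodal curve.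
-/

set_option autoImplicit false
set_option maxHeartbeats 400000
universe u
open CategoryTheory CategoryTheory.Limits AlgebraicGeometry TopologicalSpace Opposite IsLocalRing

namespace K326.DegPts

open Groth.Agent.Divis.CartierBasic Groth.Agent.Divis.CartierStalk Groth.Agent.CurvesC.TailGeom
open Groth.Agent.CurvesB Groth.Agent.CurvesC K326.StalkVan K326.PtsDiv Groth.Agent
open Groth.Agent.CurvesC.TailNum Groth.Agent.CurvesC.DegIso

section count

variable (k : Type u) [Field k]

theorem finrank_quotMod_eq_ncard [IsAlgClosed k] (X : Scheme.{u}) [X.Over (Spec (CommRingCat.of k))]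
    (I : X.IdealSheafData) [IsFinite (I.subschemeι ≫ (X ↘ (Spec (CommRingCat.of k))))]
    (hI : ∀ x ∈ I.support, stalkIdeal I x = maximalIdeal (X.presheaf.stalk x)) :
    Module.finrank k (Coh.HH X (ClSub.quotMod I) 0) = (I.support : Set X).ncard := by
  classical
  rw [Groth.Agent.Sga5.H844.FinLen.finrank_quotMod_eq, ← _root_.finsum_one]
  refine finsum_congr fun x => ?_
  by_cases hx : x ∈ I.support
  · rw [finsum_eq_if, if_pos (show x ∈ (I.support : Set X) from hx), hI x hx]
    have h1 : IsSimpleModule (X.presheaf.stalk x) (X.presheaf.stalk x ⧸ maximalIdeal (X.presheaf.stalk x)) :=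
      isSimpleModule_iff_isCoatom.mpr (maximalIdeal.isMaximal _).out
    rw [Module.length_eq_one]
    rfl
  · rw [finsum_eq_if, if_neg (show x ∉ (I.support : Set X) from hx),
      (notMem_support_iff_stalkIdeal_eq_top I x).mp hx]
    have h1 : Subsingleton (X.presheaf.stalk x ⧸ (⊤ : Ideal (X.presheaf.stalk x))) :=
      Ideal.Quotient.subsingleton_iff.2 rfl
    rw [Module.length_eq_zero]
    rfl

theorem isFinite_of_finite (X : Scheme.{u}) [X.Over (Spec (CommRingCat.of k))]
    [IsProper (X ↘ (Spec (CommRingCat.of k)))] (D : X.IdealSheafData) (hfin : (D.support : Set X).Finite) :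
    IsFinite (D.subschemeι ≫ (X ↘ (Spec (CommRingCat.of k)))) := by
  have hfin' : Finite D.subscheme := by
    have h1 : (Set.range D.subschemeι).Finite := by
      rw [Scheme.IdealSheafData.range_subschemeι]; exact hfin
    have : Finite (Set.range D.subschemeι) := h1
    exact Finite.of_injective_finite_range D.subschemeι.injective
  have : LocallyQuasiFinite (D.subschemeι ≫ (X ↘ (Spec (CommRingCat.of k)))) :=
    LocallyQuasiFinite.of_finite_preimage_singleton _ fun x ↦ Set.toFinite _
  exact IsFinite.of_isProper_of_locallyQuasiFinite _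

end count

section inv

variable {X Y : Scheme.{u}}

lemma isInverseOf_pullback (f : Y ⟶ X) {L M : X.Modules} (h : ClSub.IsInverseOf L M) :
    ClSub.IsInverseOf ((Scheme.Modules.pullback f).obj L) ((Scheme.Modules.pullback f).obj M) := by
  obtain ⟨hL, hM⟩ := Dix.IdealModCartier.isInvertible_of_isInverseOf h
  obtain ⟨e⟩ := h
  obtain ⟨e'⟩ := Dix.IdealModCartier.pullback_tensorMod f hL hM
  exact ⟨e'.symm ≪≫ (Scheme.Modules.pullback f).mapIso e ≪≫ CurvesA.HHMap.pullbackUnit f⟩

lemma isInverseOf_congr {L M M' : X.Modules} (h : ClSub.IsInverseOf L M) (e : M ≅ M') :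
    ClSub.IsInverseOf L M' := by
  obtain ⟨e'⟩ := h
  exact ⟨(Ega2.Tens.mapTIso (Iso.refl L) e).symm ≪≫ e'⟩

end inv

section deg

attribute [local instance] subOver

variable (k : Type u) [Field k] [IsAlgClosed k] (X : Scheme.{u}) [X.Over (Spec (CommRingCat.of k))]

theorem deg_restrict_twist [IsProper (X ↘ (Spec (CommRingCat.of k)))] [ConnectedSpace X]
    (hdim : topologicalKrullDim X = 1) {n : ℕ} {p : Fin n → X} (hp : Pts k n p)
    (J : X.IdealSheafData) [IsReduced J.subscheme]
    (hJ : ∀ Z ∈ irreducibleComponents (J.subscheme : Type u), topologicalKrullDim Z = 1)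
    (w N M : X.Modules) (hw : PicF.IsInvertible w)
    (hN : ClSub.IsInverseOf N (ClSub.idealMod (Scheme.IdealSheafData.vanishingIdeal (ptsCl hp.cl))))
    (e : M ≅ CohB1.tensorMod w N) :
    Curv2.deg k J.subscheme ((Scheme.Modules.pullback J.subschemeι).obj M) 1 =
      Curv2.deg k J.subscheme ((Scheme.Modules.pullback J.subschemeι).obj w) 1 +
        ((p ⁻¹' (J.support : Set X)).ncard : ℤ) := by
  have hP : IsProper (J.subscheme ↘ Spec (CommRingCat.of k)) :=
    inferInstanceAs (IsProper (J.subschemeι ≫ (X ↘ (Spec (CommRingCat.of k)))))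
  have hd : topologicalKrullDim J.subscheme ≤ 1 :=
    (J.subschemeι.isClosedEmbedding.isInducing.topologicalKrullDim_le).trans hdim.le
  obtain ⟨hD', hst⟩ := isEff_comap k hdim J hJ hp
  have hD := Dix.IdealModCartier.isEffCartierIdeal_of_isInverseOf hN
  obtain ⟨e1⟩ := Dix.IdealModCartier.pullback_idealMod J.subschemeι hD hD'
  have hN' := isInverseOf_congr (isInverseOf_pullback J.subschemeι hN) e1
  have hNi := (Dix.IdealModCartier.isInvertible_of_isInverseOf hN).1
  have hwp := Groth.Agent.Fdesc.LocGen.isInvertible_pullback J.subschemeι hw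
  obtain ⟨hfin, key⟩ := Groth.Agent.S1604.result k J.subscheme hd _ hD' _
    (Dix.IdealModCartier.isInvertible_of_isInverseOf hN').1 hN' 1
    ((Scheme.Modules.pullback J.subschemeι).obj w)
    (Groth.Agent.Ega2.QCohLocal.isFinLocFreeOfRank_one_iff.mpr hwp)
  obtain ⟨e2⟩ := Dix.IdealModCartier.pullback_tensorMod J.subschemeι hw hNi
  rw [deg_congr k ((Scheme.Modules.pullback J.subschemeι).mapIso e ≪≫ e2), key, Nat.cast_one, one_mul, add_comm]
  congr 2
  have hsupp : ∀ y : J.subscheme, y ∈ ((Scheme.IdealSheafData.vanishingIdeal (ptsCl hp.cl)).comap J.subschemeι).support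
      ↔ ∃ i, J.subschemeι y = p i := by
    intro y
    rw [Scheme.IdealSheafData.support_comap]
    change J.subschemeι y ∈ ((Scheme.IdealSheafData.vanishingIdeal (ptsCl hp.cl)).support : Set X) ↔ _
    rw [Scheme.IdealSheafData.coe_support_vanishingIdeal]
    exact mem_ptsCl hp.cl _
  rw [finrank_quotMod_eq_ncard k J.subscheme _ fun y hy => hst y ((hsupp y).mp hy)]
  rw [← Set.ncard_image_of_injective _ J.subschemeι.injective, ← Set.ncard_image_of_injective _ hp.inj]
  congr 1
  ext x
  constructor
  · rintro ⟨y, hy, rfl⟩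
    obtain ⟨i, hi⟩ := (hsupp y).mp hy
    refine ⟨i, ?_, hi.symm⟩
    change p i ∈ (J.support : Set X)
    rw [← hi, ← Scheme.IdealSheafData.range_subschemeι]
    exact ⟨y, rfl⟩
  · rintro ⟨i, hi, rfl⟩
    have hi' : p i ∈ (J.support : Set X) := hi
    rw [← Scheme.IdealSheafData.range_subschemeι] at hi'
    obtain ⟨y, hy⟩ := hi'
    exact ⟨y, (hsupp y).mpr ⟨i, hy⟩, hy⟩

theorem finrank_inter [IsProper (X ↘ (Spec (CommRingCat.of k)))] [IsReduced X]
    (hdim : topologicalKrullDim X ≤ 1) (hX : Curv2.AtWorstNodal k X) (Y : Closeds X)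
    (hY : (Y : Set X) ⊆ closure (interior Y)) :
    Module.finrank k (Coh.HH X (ClSub.quotMod (Scheme.IdealSheafData.vanishingIdeal Y ⊔ complIdeal Y)) 0) =
      ((Y : Set X) ∩ closure (Y : Set X)ᶜ).ncard := by
  have hN : IsNoetherian X := Groth.Agent.VarietyB.DegFin.isNoetherian_of_isProper k X
  have hsupp : ((Scheme.IdealSheafData.vanishingIdeal Y ⊔ complIdeal Y).support : Set X) =
      (Y : Set X) ∩ closure (Y : Set X)ᶜ := by
    rw [Scheme.IdealSheafData.support_sup, Closeds.coe_inf, support_complIdeal,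
      Scheme.IdealSheafData.coe_support_vanishingIdeal]
  have hcl : ∀ x ∈ (Y : Set X) ∩ closure (Y : Set X)ᶜ, IsClosed ({x} : Set X) := fun x hx =>
    K326.NodeInter.isClosed_of_mem hdim Y hY x hx.1 hx.2
  have hfin : ((Y : Set X) ∩ closure (Y : Set X)ᶜ).Finite :=
    Groth.Agent.VarietyB.CurveTop.finite_of_isClosed_of_closedPoints _ (Y.isClosed.inter isClosed_closure) hcl
  have := isFinite_of_finite k X (Scheme.IdealSheafData.vanishingIdeal Y ⊔ complIdeal Y) (by rw [hsupp]; exact hfin)
  rw [finrank_quotMod_eq_ncard k X, hsupp]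
  intro x hx
  have hx' : x ∈ (Y : Set X) ∩ closure (Y : Set X)ᶜ := by rw [← hsupp]; exact hx
  rw [stalkIdeal_sup]
  exact K326.NodeInter.stalkIdeal_sup_eq k hX hdim Y hY x hx'.1 hx'.2

/-- A proper reduced connected scheme over an algebraically closed field has `h⁰ = 1`. -/
theorem finrank_zero [IsProper (X ↘ (Spec (CommRingCat.of k)))] [IsReduced X] [ConnectedSpace X] :
    Module.finrank k (Coh.HH X (Coh.structureModule X) 0) = 1 := by
  rw [(Groth.Agent.Models.H74.H0Card.finite_and_finrank k (Z := X)).2, Nat.card_eq_one_iff_unique]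
  exact ⟨inferInstance, inferInstance⟩

end deg

end K326.DegPts
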