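import Groth.Agent.CurvSt.K900.Edge
import Groth.Agent.CurvSt.K900.Acyc
import Groth.Agent.LoccohB.GlueHom
import Groth.Agent.Ega1.QcqsPush
import Groth.Agent.CohqA.AffineVanish
import Groth.Agent.CohqB.LocalQC

/-!
# Dualizing pairs and open and closed subschemes
-/

set_option autoImplicit false
set_option maxHeartbeats 400000
universe u
open CategoryTheory CategoryTheory.Limits AlgebraicGeometry TopologicalSpace Opposite

namespace K326.Clopen

open Groth.Agent Groth.Agent.LoccohB.GlueHom Groth.Agent.CurvesC.DualCount Groth.Agent.CohqB.HSeqMod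
  K900.Edge

variable {X : Scheme.{u}} {U S : X.Opens}

/-- Two complementary open sets. -/
structure Compl (U S : X.Opens) : Prop where
  inf : U ⊓ S = ⊥
  sup : U ⊔ S = ⊤

theorem Compl.symm (h : Compl U S) : Compl S U := ⟨by rw [inf_comm]; exact h.inf, by rw [sup_comm]; exact h.sup⟩

theorem Compl.of_isClosed {U : X.Opens} (h : IsClosed (U : Set X)) :
    Compl U (⟨(U : Set X)ᶜ, h.isOpen_compl⟩ : X.Opens) where
  inf := by
    ext x
    simp
  sup := by
    ext x
    simp

theorem Compl.isClosed (h : Compl U S) : IsClosed (U : Set X) := by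
  have h1 : (U : Set X) = (S : Set X)ᶜ := by
    ext x
    constructor
    · intro hx hxS
      have : x ∈ U ⊓ S := ⟨hx, hxS⟩
      rw [h.inf] at this
      exact this
    · intro hx
      have : x ∈ U ⊔ S := by rw [h.sup]; trivial
      exact this.resolve_right hx
  rw [h1]
  exact S.2.isClosed_compl

theorem subsingleton_of_bot (F : X.Modules) {V : X.Opens} (hV : V = ⊥) : Subsingleton Γ(F, V) := by
  subst hV
  refine ⟨fun a b => sec_ext F (fun i : PEmpty => i.elim) (bot_le) a b fun i => i.elim⟩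

/-- The two members of the cover. -/
def cov (U S : X.Opens) : ULift.{u} Bool → X.Opens := fun i => if i.down then U else S

theorem iSup_cov (h : Compl U S) : iSup (cov U S) = ⊤ := by
  rw [eq_top_iff, ← h.sup]
  exact sup_le (le_iSup (cov U S) ⟨true⟩) (le_iSup (cov U S) ⟨false⟩)

/-- Glue morphisms over two complementary open sets. -/
theorem exists_glue₂ (h : Compl U S) {F G : X.Modules} (a : LHom F G U) (b : LHom F G S) :
    ∃ ψ : F ⟶ G, (∀ (V : X.Opens) (hV : V ≤ U) (s : Γ(F, V)), ψ.app V s = a.app V hV s) ∧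
      ∀ (V : X.Opens) (hV : V ≤ S) (s : Γ(F, V)), ψ.app V s = b.app V hV s := by
  obtain ⟨ψ, hψ⟩ := exists_glue F G (cov U S) (iSup_cov h)
    (fun i => match i with | ⟨true⟩ => a | ⟨false⟩ => b) (by
      rintro ⟨_ | _⟩ ⟨_ | _⟩ V hi hj s
      · rfl
      · have : V = ⊥ := by
          rw [eq_bot_iff, ← h.inf]
          exact le_inf hj hi
        have := subsingleton_of_bot G this
        exact Subsingleton.elim _ _
      · have : V = ⊥ := by
          rw [eq_bot_iff, ← h.inf]
          exact le_inf hi hj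
        have := subsingleton_of_bot G this
        exact Subsingleton.elim _ _
      · rfl)
  exact ⟨ψ, fun V hV s => hψ ⟨true⟩ V hV s, fun V hV s => hψ ⟨false⟩ V hV s⟩

/-- Two morphisms which agree over two complementary open sets are equal. -/
theorem hom_ext₂ (h : Compl U S) {F G : X.Modules} (φ ψ : F ⟶ G)
    (hU : ∀ (V : X.Opens), V ≤ U → ∀ s : Γ(F, V), φ.app V s = ψ.app V s)
    (hS : ∀ (V : X.Opens), V ≤ S → ∀ s : Γ(F, V), φ.app V s = ψ.app V s) : φ = ψ :=
  hom_ext_of_cover (cov U S) (iSup_cov h) φ ψ (by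
    rintro ⟨_ | _⟩ V hV s
    · exact hS V hV s
    · exact hU V hV s)

/-- The unit of the restriction adjunction. -/
noncomputable abbrev un (U : X.Opens) (M : X.Modules) :
    M ⟶ (Scheme.Modules.pushforward U.ι).obj (M.restrict U.ι) :=
  (Scheme.Modules.restrictAdjunction U.ι).unit.app M

theorem un_bijective (M : X.Modules) {V : X.Opens} (hV : V ≤ U) : Function.Bijective ((un U M).app V) := by
  have h : U.ι ''ᵁ U.ι ⁻¹ᵁ V = V := by
    rw [Scheme.Hom.image_preimage_eq_opensRange_inf, Scheme.Opens.opensRange_ι]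
    exact inf_eq_right.mpr hV
  change Function.Bijective (M.presheaf.map (homOfLE (U.ι.image_preimage_le V)).op)
  have h1 : ∀ (W : X.Opens) (e : W = V) (hW : W ≤ V), Function.Bijective (M.presheaf.map (homOfLE hW).op) := by
    rintro W rfl hW
    have : (homOfLE hW).op = 𝟙 (op W) := rfl
    rw [this, M.presheaf.map_id]
    exact Function.bijective_id
  exact h1 _ h _

theorem subsingleton_push (h : Compl U S) (F : (U : Scheme.{u}).Modules) {V : X.Opens} (hV : V ≤ S) :
    Subsingleton Γ((Scheme.Modules.pushforward U.ι).obj F, V) := by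
  have h1 : U.ι ⁻¹ᵁ V = ⊥ := by
    ext x
    simp only [Opens.coe_bot, Set.mem_empty_iff_false, iff_false]
    intro hx
    have : (U.ι x : X) ∈ U ⊓ S := ⟨x.2, hV hx⟩
    rw [h.inf] at this
    exact this
  exact subsingleton_of_bot F h1

/-- A morphism as a linear map on sections. -/
noncomputable def lin {M N : X.Modules} (φ : M ⟶ N) (V : X.Opens) : Γ(M, V) →ₗ[Γ(X, V)] Γ(N, V) where
  toFun s := φ.app V s
  map_add' a b := map_add _ a b
  map_smul' r a := Scheme.Modules.Hom.app_smul φ r a

theorem lin_apply {M N : X.Modules} (φ : M ⟶ N) (V : X.Opens) (s : Γ(M, V)) : lin φ V s = φ.app V s := rfl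

theorem lin_bijective {M N : X.Modules} {φ : M ⟶ N} {V : X.Opens} (h : Function.Bijective (φ.app V)) :
    Function.Bijective (lin φ V) := h

/-- Extension by zero of the sections over an open and closed subset. -/
theorem exists_sigma (h : Compl U S) (M : X.Modules) :
    ∃ σ : (Scheme.Modules.pushforward U.ι).obj (M.restrict U.ι) ⟶ M,
      ∀ (V : X.Opens), V ≤ U → ∀ s : Γ(M, V), σ.app V ((un U M).app V s) = s := by
  let e : ∀ V : X.Opens, V ≤ U →
      (Γ(M, V) ≃ₗ[Γ(X, V)] Γ((Scheme.Modules.pushforward U.ι).obj (M.restrict U.ι), V)) := fun V hV =>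
    LinearEquiv.ofBijective (lin (un U M) V) (lin_bijective (un_bijective M hV))
  let a : LHom ((Scheme.Modules.pushforward U.ι).obj (M.restrict U.ι)) M U :=
    { app := fun V hV => (e V hV).symm.toLinearMap
      nat := fun V V' hVV hV s => by
        obtain ⟨t, rfl⟩ := (e V hV).surjective s
        change (e V' (hVV.trans hV)).symm (res _ hVV ((un U M).app V t)) =
          res M hVV ((e V hV).symm ((e V hV) t))
        rw [LinearEquiv.symm_apply_apply, ← app_res]
        exact (e V' (hVV.trans hV)).symm_apply_apply _ }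
  let b : LHom ((Scheme.Modules.pushforward U.ι).obj (M.restrict U.ι)) M S :=
    { app := fun V hV => 0
      nat := fun V V' hVV hV s => (map_zero (res M hVV)).symm }
  obtain ⟨σ, hσ, -⟩ := exists_glue₂ h a b
  refine ⟨σ, fun V hV s => ?_⟩
  rw [hσ V hV]
  exact (e V hV).symm_apply_apply s

section Sigma

variable (h : Compl U S) {M : X.Modules} {σ : (Scheme.Modules.pushforward U.ι).obj (M.restrict U.ι) ⟶ M}
  (hσ : ∀ (V : X.Opens), V ≤ U → ∀ s : Γ(M, V), σ.app V ((un U M).app V s) = s)

include h hσ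

theorem sigma_un : σ ≫ un U M = 𝟙 _ := by
  refine hom_ext₂ h _ _ (fun V hV s => ?_) (fun V hV s => ?_)
  · obtain ⟨t, rfl⟩ := (un_bijective M hV).2 s
    change (un U M).app V (σ.app V ((un U M).app V t)) = _
    rw [hσ V hV]
    rfl
  · have := subsingleton_push h (M.restrict U.ι) hV
    exact Subsingleton.elim _ _

theorem comp_un_sigma {F : (U : Scheme.{u}).Modules} (Φ : (Scheme.Modules.pushforward U.ι).obj F ⟶ M) :
    Φ ≫ un U M ≫ σ = Φ := by
  refine hom_ext₂ h _ _ (fun V hV s => ?_) (fun V hV s => ?_)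
  · change σ.app V ((un U M).app V (Φ.app V s)) = _
    rw [hσ V hV]
  · have := subsingleton_push h F hV
    rw [Subsingleton.elim s 0, map_zero, map_zero]

theorem un_sigma (hM : ∀ V : X.Opens, V ≤ S → Subsingleton Γ(M, V)) : un U M ≫ σ = 𝟙 _ := by
  refine hom_ext₂ h _ _ (fun V hV s => ?_) (fun V hV s => ?_)
  · exact hσ V hV s
  · have := hM V hV
    exact Subsingleton.elim _ _

end Sigma

/-- A module which vanishes off the open and closed subset `U` is the direct image of its restriction. -/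
theorem nonempty_iso_push (h : Compl U S) (M : X.Modules) (hM : ∀ V : X.Opens, V ≤ S → Subsingleton Γ(M, V)) :
    Nonempty (M ≅ (Scheme.Modules.pushforward U.ι).obj (M.restrict U.ι)) := by
  obtain ⟨σ, hσ⟩ := exists_sigma h M
  exact ⟨⟨un U M, σ, un_sigma h hσ hM, sigma_un h hσ⟩⟩

/-- Modules vanishing off `U` with isomorphic restrictions are isomorphic. -/
theorem nonempty_iso (h : Compl U S) {M N : X.Modules} (hM : ∀ V : X.Opens, V ≤ S → Subsingleton Γ(M, V))
    (hN : ∀ V : X.Opens, V ≤ S → Subsingleton Γ(N, V)) (e : M.restrict U.ι ≅ N.restrict U.ι) :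
    Nonempty (M ≅ N) := by
  obtain ⟨a⟩ := nonempty_iso_push h M hM
  obtain ⟨b⟩ := nonempty_iso_push h N hN
  exact ⟨a ≪≫ (Scheme.Modules.pushforward U.ι).mapIso e ≪≫ b.symm⟩

section Pair

variable (k : Type u) [Field k] [X.Over (Spec (CommRingCat.of k))]

theorem hU (U : X.Opens) :
    U.ι ≫ (X ↘ Spec (CommRingCat.of k)) = ((U : Scheme.{u}) ↘ Spec (CommRingCat.of k)) := rfl

theorem isClosedImmersion (h : Compl U S) : IsClosedImmersion U.ι := by
  refine @IsClosedImmersion.of_isPreimmersion _ _ _ _ ?_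
  rw [Scheme.Opens.range_ι]
  exact h.isClosed

theorem edge_bijective (h : Compl U S) {F : (U : Scheme.{u}).Modules} (hF : Coh.IsQCoh F) (n : ℕ) :
    Function.Bijective (edge U.ι k (hU k U) F n) := by
  have hcl := isClosedImmersion h
  refine K900.Acyc.edge_bijective_of U.ι k (hU k U) {V | IsAffineOpen V} X.isBasis_affineOpens (fun V hV m => ?_) n
  have hV' : IsAffineOpen (U.ι ⁻¹ᵁ V) := hV.preimage U.ι
  have h2 : IsAffine (U.ι ⁻¹ᵁ V).toScheme := hV'
  have h3 := CohqB.LocalQC.isQCoh_restrict (U.ι ⁻¹ᵁ V).ι hF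
  exact CohqA.AffineVanish.HH_subsingleton _ _ (m + 1) (Nat.succ_pos m)

/-- A dualizing pair restricts to open and closed subschemes. -/
theorem exists_isPair (h : Compl U S) {w : X.Modules} (hw : Coh.IsQCoh w) {t : Coh.HH X w 1 →ₗ[k] k}
    (ht : IsPair k t) : ∃ t' : Coh.HH (U : Scheme.{u}) (w.restrict U.ι) 1 →ₗ[k] k, IsPair k t' := by
  obtain ⟨σ, hσ⟩ := exists_sigma h w
  have hcl := isClosedImmersion h
  have hwU : Coh.IsQCoh (w.restrict U.ι) := CohqB.LocalQC.isQCoh_restrict U.ι hw
  let e := LinearEquiv.ofBijective _ (edge_bijective k h hwU 1)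
  refine ⟨(t.comp (hmapₗ k σ 1)).comp e.symm.toLinearMap, fun F hF ψ => ?_⟩
  have hQ : Coh.IsQCoh ((Scheme.Modules.pushforward U.ι).obj F) := Ega1.QcqsPush.isQCoh_pushforward _ _ hF
  obtain ⟨Φ, hΦ, hu⟩ := ht _ hQ (ψ.comp (edge U.ι k (hU k U) F 1))
  have key : ∀ (φ : F ⟶ w.restrict U.ι) (x : Coh.HH X ((Scheme.Modules.pushforward U.ι).obj F) 1),
      (t.comp (hmapₗ k σ 1)).comp e.symm.toLinearMap (hmap φ 1 (edge U.ι k (hU k U) F 1 x)) =
        t (hmap ((Scheme.Modules.pushforward U.ι).map φ ≫ σ) 1 x) := by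
    intro φ x
    rw [← edge_nat]
    change t (hmap σ 1 (e.symm (e _))) = _
    rw [e.symm_apply_apply, hmap_comp_apply]
  refine ⟨(Scheme.Modules.pushforward U.ι).preimage (Φ ≫ un U w), fun y => ?_, fun φ' hφ' => ?_⟩
  · obtain ⟨x, rfl⟩ := (edge_bijective k h hF 1).2 y
    refine Eq.trans ?_ (key _ x).symm
    rw [Functor.map_preimage, Category.assoc, comp_un_sigma h hσ]
    exact hΦ x
  · apply (Scheme.Modules.pushforward U.ι).map_injective
    rw [Functor.map_preimage]
    have h1 : (Scheme.Modules.pushforward U.ι).map φ' ≫ σ = Φ := hu _ fun x => (hφ' _).trans (key φ' x)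
    rw [← h1, Category.assoc, sigma_un h hσ, Category.comp_id]

end Pair

end K326.Clopen
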