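import Groth.Agent.CurvSt.K896.Stabil
import Groth.Agent.S1675

/-!
# Contraction of a nodal curve over any field to a curve with ample dualizing sheaf
-/

set_option autoImplicit false
set_option maxHeartbeats 400000
universe u
open CategoryTheory CategoryTheory.Limits AlgebraicGeometry TopologicalSpace IsLocalRing
attribute [local instance] HasDerivedCategory.standard

namespace K326.ContrStab

open Groth.Agent Groth.Agent.CurvesC.CompGeom K896.Contract K896.Trans K896.Contr K896.ConNodal K896.Stabil

/-- Contract rational tails and bridges until there are none. -/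
theorem main (k : Type u) [Field k] (N : ℕ) (X : Scheme.{u}) [X.Over (Spec (CommRingCat.of k))]
    [IsProper (X ↘ (Spec (CommRingCat.of k)))] (hN : (irreducibleComponents (X : Type u)).ncard ≤ N)
    (hdim : topologicalKrullDim X = 1)
    (h0 : Module.finrank k (Coh.HH X (Coh.structureModule X) 0) = 1) (hX : Curv2.AtWorstNodal k X) :
    ∃ (Y : Scheme.{u}) (_ : Y.Over (Spec (CommRingCat.of k))) (c : X ⟶ Y),
      c ≫ (Y ↘ (Spec (CommRingCat.of k))) = X ↘ (Spec (CommRingCat.of k)) ∧
      IsProper (Y ↘ (Spec (CommRingCat.of k))) ∧ topologicalKrullDim Y = 1 ∧ Curv2.AtWorstNodal k Y ∧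
      IsCon c ∧ (∀ (C : Set Y) (hC : C ∈ irreducibleComponents (Y : Type u)), ¬ Curv2.IsRationalTail Y C hC) ∧
      (∀ (C : Set Y) (hC : C ∈ irreducibleComponents (Y : Type u)), ¬ Curv2.IsRationalBridge k Y C hC) := by
  induction N generalizing X with
  | zero =>
    exfalso
    have hNX : IsNoetherian X := Groth.Agent.CurvesC.CurveCoh.noetherianSpace k X
    have hconn : ConnectedSpace X := Groth.Agent.CurvesC.GenusOne512.connectedSpace_of_h0 k X h0
    have hfin : (irreducibleComponents (X : Type u)).Finite := NoetherianSpace.finite_irreducibleComponents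
    have h1 : irreducibleComponents (X : Type u) = ∅ := (Set.ncard_eq_zero hfin).mp (by omega)
    obtain ⟨y⟩ := (inferInstance : Nonempty X)
    have h2 := irreducibleComponent_mem_irreducibleComponents y
    rw [h1] at h2
    exact h2
  | succ N ih =>
    have hNX : IsNoetherian X := Groth.Agent.CurvesC.CurveCoh.noetherianSpace k X
    have hconn : ConnectedSpace X := Groth.Agent.CurvesC.GenusOne512.connectedSpace_of_h0 k X h0
    have hred : IsReduced X := Groth.Agent.CurvesC.GenusOne512.isReduced_of_atWorstNodal k X hX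
    by_cases hst : ∀ (C : Set X) (hC : C ∈ irreducibleComponents (X : Type u)),
        ¬ (Curv2.IsRationalTail X C hC ∨ Curv2.IsRationalBridge k X C hC)
    · exact ⟨X, inferInstance, 𝟙 X, Category.id_comp _, inferInstance, hdim, hX, isCon_of_isIso _,
        fun C hC h => hst C hC (Or.inl h), fun C hC h => hst C hC (Or.inr h)⟩
    · push Not at hst
      obtain ⟨C, hC, htb⟩ := hst
      obtain ⟨Y, qY, c, b, hq, hPY, hcon, hcon', hdY, hnY, hT, -⟩ := exists_main k (hC := hC) hdim hX htb
      have hs := K896.CompG.subsingleton_specΓ k X C hC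
      have hcP : IsProper c := by
        have : IsProper (c ≫ qY) := by rw [hq]; infer_instance
        exact IsProper.of_comp c qY
      have hcl : IsClosedMap c := c.isClosedMap
      let _ : Y.Over (Spec (CommRingCat.of k)) := ⟨qY⟩
      have hPY' : IsProper (Y ↘ (Spec (CommRingCat.of k))) := hPY
      have hNY : IsNoetherian Y := Groth.Agent.CurvesC.CurveCoh.noetherianSpace k Y
      obtain ⟨t⟩ := hT
      have hlt := ncard_lt hcon hs hcl ⟨_, mem_inter X C hC t⟩
      have h0Y : Module.finrank k (Coh.HH Y (Coh.structureModule Y) 0) = 1 :=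
        (hcon'.finrank_zero k hq).symm.trans h0
      obtain ⟨Z, qZ, c', hq', hPZ, hdZ, hnZ, hcon'', h1, h2⟩ := ih Y (by omega) hdY h0Y hnY
      exact ⟨Z, qZ, c ≫ c', by rw [Category.assoc, hq']; exact hq, hPZ, hdZ, hnZ, hcon'.comp hcon'', h1, h2⟩

end K326.ContrStab
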