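import Groth.Agent.Curves.K326.SemiMain
import Groth.Agent.UnramA.Locus
import Groth.Agent.S7642
import Groth.Prelude.Def_DualGr

/-!
# Pointed nodal curves: stability in terms of the dual graph

`card_edges`: the non-loop edges at a vertex are the points of the component on the other components.
`main`: the twisted dualizing module is ample if and only if `2 p_a(C_v) - 2 + e_v + d_v > 0` for all `v`.
-/

set_option autoImplicit false
set_option maxHeartbeats 400000
universe u
open CategoryTheory CategoryTheory.Limits AlgebraicGeometry TopologicalSpace Opposite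
open Curves

namespace K326.DualGraph

open Groth.Agent.CurvesC Groth.Agent.CurvesC.TailGeom K326.StalkVan K326.PtsDiv K326.SemiStab

/-- In a Noetherian space, a point of the closure of the complement of a component lies on another component. -/
theorem exists_component {T : Type*} [TopologicalSpace T] [NoetherianSpace T] (C : Set T) (x : T)
    (hx : x ∈ closure Cᶜ) : ∃ D ∈ irreducibleComponents T, D ≠ C ∧ x ∈ D := by
  have hfin := NoetherianSpace.finite_irreducibleComponents (α := T)
  have hsub : Cᶜ ⊆ ⋃₀ (irreducibleComponents T \ {C}) := by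
    intro y hy
    refine Set.mem_sUnion.mpr ⟨irreducibleComponent y, ⟨irreducibleComponent_mem_irreducibleComponents y, ?_⟩,
      mem_irreducibleComponent⟩
    rintro rfl
    exact hy mem_irreducibleComponent
  have hcl : IsClosed (⋃₀ (irreducibleComponents T \ {C})) := by
    rw [Set.sUnion_eq_biUnion]
    exact (hfin.sdiff).isClosed_biUnion fun D hD => isClosed_of_mem_irreducibleComponents D hD.1
  obtain ⟨D, hD, hxD⟩ := Set.mem_sUnion.mp (closure_minimal hsub hcl hx)
  exact ⟨D, hD.1, hD.2, hxD⟩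

/-- A component different from `C` lies in the closure of the complement of `C`. -/
theorem subset_closure_compl {T : Type*} [TopologicalSpace T] {C D : Set T} (hC : C ∈ irreducibleComponents T)
    (hD : D ∈ irreducibleComponents T) (hne : D ≠ C) : D ⊆ closure Cᶜ := by
  have hCc := isClosed_of_mem_irreducibleComponents C hC
  have h1 : D ⊆ C ∪ closure Cᶜ := by
    intro x _
    by_cases hx : x ∈ C
    · exact Or.inl hx
    · exact Or.inr (subset_closure hx)
  rcases isPreirreducible_iff_isClosed_union_isClosed.mp hD.1.2 C (closure Cᶜ) hCc isClosed_closure h1 with h | h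
  · exact absurd (Set.Subset.antisymm h (hD.2 hC.1 h)) hne
  · exact h

variable (k : Type u) [Field k] (X : Scheme.{u}) [X.Over (Spec (CommRingCat.of k))]
  [IsProper (X ↘ (Spec (CommRingCat.of k)))] [IsReduced X]

set_option linter.unusedSectionVars false

/-- The non-loop edges at a vertex. -/
theorem card_edges (hdim : topologicalKrullDim X ≤ 1) (V E : Type u) (cv : V → Set X) (ce : E → X)
    (ends : E → V × V) (hΓ : DualGr.IsDualGraph (X ↘ (Spec (CommRingCat.of k))) cv ce ends) (v : V) :
    Nat.card {e : E // (ends e).1 ≠ (ends e).2 ∧ ((ends e).1 = v ∨ (ends e).2 = v)} =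
      (cv v ∩ closure (cv v)ᶜ).ncard := by
  have hN := Groth.Agent.VarietyB.DegFin.isNoetherian_of_isProper k X
  have hns := CurveCoh.noetherianSpace k X
  have hci : (cv v) ⊆ closure (interior (cv v)) := by
    obtain ⟨o, ho, hne, hoC⟩ := NoetherianSpace.exists_isOpen_nonempty_subset_irreducibleComponent
      (cv v) (hΓ.comp_mem v)
    have h1 : o ⊆ interior (cv v) := ho.subset_interior_iff.mpr hoC
    have h2 : ((cv v) ∩ o).Nonempty := by
      obtain ⟨y, hy⟩ := hne
      exact ⟨y, hoC hy, hy⟩
    exact (subset_closure_inter_of_isPreirreducible_of_isOpen (hΓ.comp_mem v).1.2 ho h2).trans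
      (closure_mono (Set.inter_subset_right.trans h1))
  have himg : cv v ∩ closure (cv v)ᶜ =
      ce '' {e : E | (ends e).1 ≠ (ends e).2 ∧ ((ends e).1 = v ∨ (ends e).2 = v)} := by
    apply Set.Subset.antisymm
    · rintro x ⟨hx1, hx2⟩
      have hnd := K326.NodeInter.not_isDomain (X := X) ⟨cv v, isClosed_of_mem_irreducibleComponents (cv v) (hΓ.comp_mem v)⟩
        hci x hx1 hx2
      have hns' : x ∈ DualGr.nonsmoothPts (X ↘ (Spec (CommRingCat.of k))) := by
        intro hs
        have h2 := (Groth.Agent.UnramA.Locus.smooth_nhd_iff _ x).mpr hs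
        have hreg := Groth.Agent.CurvesB.NodeSch2.isRegularLocalRing_of_exists k x h2
        exact hnd (Groth.Agent.S0558.result _)
      obtain ⟨e, rfl⟩ := hΓ.pt_surjective x hns'
      obtain ⟨D, hD, hDne, hxD⟩ := exists_component (cv v) (ce e) hx2
      obtain ⟨w, rfl⟩ := hΓ.comp_surjective D hD
      have hvw : w ≠ v := fun h => hDne (by rw [h])
      have h3 := (hΓ.incidence e v).mpr hx1
      have h4 := (hΓ.incidence e w).mpr hxD
      refine ⟨e, ⟨fun heq => ?_, h3⟩, rfl⟩
      rw [heq] at h3 h4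
      simp only [or_self] at h3 h4
      exact hvw (h4.symm.trans h3)
    · rintro _ ⟨e, ⟨hne, he⟩, rfl⟩
      refine ⟨(hΓ.incidence e v).mp he, ?_⟩
      have : ∃ w, w ≠ v ∧ ((ends e).1 = w ∨ (ends e).2 = w) := by
        rcases he with h | h
        · exact ⟨(ends e).2, fun h' => hne (h.trans h'.symm), Or.inr rfl⟩
        · exact ⟨(ends e).1, fun h' => hne (h'.trans h.symm), Or.inl rfl⟩
      obtain ⟨w, hw, hew⟩ := this
      exact subset_closure_compl (hΓ.comp_mem v) (hΓ.comp_mem w) (fun h => hw (hΓ.comp_injective h))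
        ((hΓ.incidence e w).mp hew)
  rw [himg, Set.ncard_image_of_injective _ hΓ.pt_injective]
  rfl

/-- A finite closed subset of a Jacobson space consists of closed points. -/
theorem isClosed_of_mem_finite {T : Type*} [TopologicalSpace T] [JacobsonSpace T] {D : Set T} (hf : D.Finite)
    (hD : IsClosed D) : ∀ x ∈ D, IsClosed ({x} : Set T) := by
  intro x hx
  have h1 : closure (D ∩ closedPoints T) = D := closure_inter_closedPoints hD
  have h2 : IsClosed (D ∩ closedPoints T) := by
    have h3 : (D ∩ closedPoints T).Finite := hf.subset Set.inter_subset_left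
    have h4 : D ∩ closedPoints T = ⋃ y ∈ D ∩ closedPoints T, {y} := (Set.biUnion_of_singleton _).symm
    rw [h4]
    exact h3.isClosed_biUnion fun y hy => hy.2
  rw [h2.closure_eq] at h1
  rw [← h1] at hx
  exact hx.2

/-- The parametrisation of a finite set of closed points. -/
theorem exists_pts {D : Set X} (hDfin : D.Finite) (hDcl : IsClosed D)
    (hD1 : ∀ x ∈ D, IsClosed ({x} : Set X))
    (hDsm : ∀ x ∈ D, ∃ U : X.Opens, x ∈ U ∧ Smooth (U.ι ≫ (X ↘ (Spec (CommRingCat.of k))))) :
    ∃ (n : ℕ) (p : Fin n → X) (hp : Pts k n p), ptsCl hp.cl = ⟨D, hDcl⟩ ∧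
      ∀ S : Set X, (p ⁻¹' S).ncard = Nat.card ↥(D ∩ S) := by
  have hf : Fintype D := hDfin.fintype
  let e := (Fintype.equivFin D).symm
  have hp : Pts k (Fintype.card D) (fun i => ((e i : D) : X)) :=
    ⟨fun i j h => e.injective (Subtype.ext h), fun i => hD1 _ (e i).2, fun i => hDsm _ (e i).2⟩
  refine ⟨Fintype.card D, fun i => ((e i : D) : X), hp, ?_, ?_⟩
  · apply Closeds.ext
    ext x
    change x ∈ ptsCl hp.cl ↔ x ∈ D
    rw [mem_ptsCl hp.cl]
    constructor
    · rintro ⟨i, rfl⟩
      exact (e i).2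
    · intro hx
      exact ⟨e.symm ⟨x, hx⟩, by simp⟩
  · intro S
    have himg : D ∩ S = (fun i => ((e i : D) : X)) '' ((fun i => ((e i : D) : X)) ⁻¹' S) := by
      ext x
      constructor
      · rintro ⟨hx, hxS⟩
        exact ⟨e.symm ⟨x, hx⟩, by simpa using hxS, by simp⟩
      · rintro ⟨i, hi, rfl⟩
        exact ⟨(e i).2, hi⟩
    rw [Nat.card_coe_set_eq, himg, Set.ncard_image_of_injective _ hp.inj]

/-- Transport of the degree formula along an equality of ideals. -/
theorem deg_comp [IsAlgClosed k] [ConnectedSpace X] (hdim : topologicalKrullDim X = 1)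
    (hX : Curv2.AtWorstNodal k X) {n : ℕ} {p : Fin n → X}
    (hp : Pts k n p) (w M : X.Modules) (hT : Tw k X hp w M) (C : Set X)
    (hC : C ∈ irreducibleComponents (X : Type u)) (J J' : X.IdealSheafData)
    (hJ : J = compIdeal C hC) (hJ' : J' = Scheme.IdealSheafData.vanishingIdeal ⟨C, isClosed_of_mem_irreducibleComponents C hC⟩) :
    @Curv2.deg k _ J.subscheme ⟨J.subschemeι ≫ (X ↘ (Spec (CommRingCat.of k)))⟩
        ((Scheme.Modules.pullback J.subschemeι).obj M) 1 =
      2 * (@Curv2.genus k _ J'.subscheme ⟨J'.subschemeι ≫ (X ↘ (Spec (CommRingCat.of k)))⟩ : ℤ) - 2 +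
        ((C ∩ closure Cᶜ).ncard : ℤ) + ((p ⁻¹' C).ncard : ℤ) := by
  have hN := Groth.Agent.VarietyB.DegFin.isNoetherian_of_isProper k X
  have h1 : compIdeal C hC =
      Scheme.IdealSheafData.vanishingIdeal ⟨C, isClosed_of_mem_irreducibleComponents C hC⟩ := rfl
  subst hJ
  have h2 : J' = compIdeal C hC := hJ'.trans h1.symm
  subst h2
  have hirr := connected_comp C hC
  have h3 := deg_formula k X hdim hX hp w M hT (compIdeal C hC)
    (dim_comp X hC (TailMain.pure_of_connected X hdim C hC))
  rw [coe_support_compIdeal] at h3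
  refine h3.trans ?_
  change _ + (((C ∩ closure Cᶜ).ncard + (p ⁻¹' C).ncard : ℕ) : ℤ) = _
  push_cast
  rw [add_assoc]

/-- The ampleness criterion. -/
theorem main [IsAlgClosed k] [ConnectedSpace X] (hdim : topologicalKrullDim X = 1)
    (hX : Curv2.AtWorstNodal k X) {n : ℕ} {p : Fin n → X}
    (hp : Pts k n p) (w M : X.Modules) (hT : Tw k X hp w M)
    (V E : Type u) (cv : V → Set X) (ce : E → X) (ends : E → V × V)
    (hΓ : DualGr.IsDualGraph (X ↘ (Spec (CommRingCat.of k))) cv ce ends) (D : Set X)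
    (hD : ∀ S : Set X, (p ⁻¹' S).ncard = Nat.card ↥(D ∩ S)) :
    CohB1.IsAmple M ↔
      ∀ v : V, 0 < 2 * (@Curv2.genus k _ (Scheme.IdealSheafData.vanishingIdeal (⟨cv v, isClosed_of_mem_irreducibleComponents (cv v) (hΓ.comp_mem v)⟩ : TopologicalSpace.Closeds X)).subscheme ⟨(Scheme.IdealSheafData.vanishingIdeal (⟨cv v, isClosed_of_mem_irreducibleComponents (cv v) (hΓ.comp_mem v)⟩ : TopologicalSpace.Closeds X)).subschemeι ≫ (X ↘ (Spec (CommRingCat.of k)))⟩ : ℤ) - 2 +
        (Nat.card {e : E // (ends e).1 ≠ (ends e).2 ∧ ((ends e).1 = v ∨ (ends e).2 = v)} : ℤ) +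
        (Nat.card ↥(D ∩ cv v) : ℤ) := by
  have hN := Groth.Agent.VarietyB.DegFin.isNoetherian_of_isProper k X
  have key : ∀ v : V, @Curv2.deg k _ (X.irreducibleComponentIdeal (cv v) (hΓ.comp_mem v)).radical.subscheme
      ⟨(X.irreducibleComponentIdeal (cv v) (hΓ.comp_mem v)).radical.subschemeι ≫ (X ↘ (Spec (CommRingCat.of k)))⟩
      ((Scheme.Modules.pullback (X.irreducibleComponentIdeal (cv v) (hΓ.comp_mem v)).radical.subschemeι).obj M) 1 =
      2 * (@Curv2.genus k _ (Scheme.IdealSheafData.vanishingIdeal (⟨cv v, isClosed_of_mem_irreducibleComponents (cv v) (hΓ.comp_mem v)⟩ : TopologicalSpace.Closeds X)).subscheme ⟨(Scheme.IdealSheafData.vanishingIdeal (⟨cv v, isClosed_of_mem_irreducibleComponents (cv v) (hΓ.comp_mem v)⟩ : TopologicalSpace.Closeds X)).subschemeι ≫ (X ↘ (Spec (CommRingCat.of k)))⟩ : ℤ) - 2 +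
        (Nat.card {e : E // (ends e).1 ≠ (ends e).2 ∧ ((ends e).1 = v ∨ (ends e).2 = v)} : ℤ) +
        (Nat.card ↥(D ∩ cv v) : ℤ) := by
    intro v
    rw [card_edges k X hdim.le V E cv ce ends hΓ v, ← hD]
    refine deg_comp k X hdim hX hp w M hT (cv v) (hΓ.comp_mem v) _ _ ?_ rfl
    rw [← Scheme.IdealSheafData.vanishingIdeal_support]
    rfl
  rw [Groth.Agent.S7642.result k X hdim.le M hT.isInvertible]
  constructor
  · intro h v
    rw [← key v]
    exact h (cv v) (hΓ.comp_mem v) (TailMain.pure_of_connected X hdim _ (hΓ.comp_mem v))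
  · intro h C hC _
    obtain ⟨v, rfl⟩ := hΓ.comp_surjective C hC
    rw [key v]
    exact h v

end K326.DualGraph
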