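import Groth.Agent.Curves.K326.GorAsm

/-!
# Contractions and dualizing modules of Gorenstein curves: the theorem
-/

set_option autoImplicit false
set_option maxHeartbeats 400000
universe u
open CategoryTheory CategoryTheory.Limits AlgebraicGeometry TopologicalSpace Opposite

namespace K326.GorMain

open Groth.Agent Groth.Agent.CurvesC.DualCount K326.Clopen K326.GorAsm K900.Acyc

section Stalks

variable {X : Scheme.{u}}

theorem subsingleton_stalk {M : X.Modules} {S : X.Opens} (h : ∀ V : X.Opens, V ≤ S → Subsingleton Γ(M, V))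
    {x : X} (hx : x ∈ S) : Subsingleton (M.presheaf.stalk x) := by
  have key : ∀ m : M.presheaf.stalk x, m = 0 := by
    intro m
    obtain ⟨V, hxV, s, rfl⟩ := TopCat.Presheaf.exists_germ_eq M.presheaf m
    have h1 := h (V ⊓ S) inf_le_right
    have h2 : M.presheaf.germ V x hxV s =
        M.presheaf.germ (V ⊓ S) x ⟨hxV, hx⟩ (M.presheaf.map (homOfLE (inf_le_left : V ⊓ S ≤ V)).op s) :=
      (TopCat.Presheaf.germ_res_apply M.presheaf (homOfLE (inf_le_left : V ⊓ S ≤ V)) x ⟨hxV, hx⟩ s).symm
    rw [h2, Subsingleton.elim (M.presheaf.map (homOfLE (inf_le_left : V ⊓ S ≤ V)).op s) 0]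
    exact map_zero _
  exact ⟨fun a b => by rw [key a, key b]⟩

theorem subsingleton_of_stalks {M : X.Modules} {V : X.Opens} (h : ∀ x ∈ V, Subsingleton (M.presheaf.stalk x)) :
    Subsingleton Γ(M, V) := by
  refine ⟨fun a b => ?_⟩
  refine TopCat.Presheaf.section_ext (⟨M.presheaf, M.isSheaf⟩ : TopCat.Sheaf Ab X) V a b fun x hx => ?_
  have := h x hx
  exact Subsingleton.elim (α := M.presheaf.stalk x) _ _

end Stalks

theorem isProper_opens {X : Scheme.{u}} (k : Type u) [Field k] [X.Over (Spec (CommRingCat.of k))]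
    [IsProper (X ↘ (Spec (CommRingCat.of k)))] {U S : X.Opens} (h : Compl U S) :
    IsProper ((U : Scheme.{u}) ↘ (Spec (CommRingCat.of k))) := by
  have := isClosedImmersion h
  exact inferInstanceAs (IsProper (U.ι ≫ (X ↘ (Spec (CommRingCat.of k)))))

variable {X Y : Scheme.{u}} (c : X ⟶ Y) (k : Type u) [Field k] [X.Over (Spec (CommRingCat.of k))]
  [Y.Over (Spec (CommRingCat.of k))]
  (hc : c ≫ (Y ↘ Spec (CommRingCat.of k)) = X ↘ Spec (CommRingCat.of k))
  [IsProper (X ↘ (Spec (CommRingCat.of k)))] [IsProper (Y ↘ (Spec (CommRingCat.of k)))]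
  [IsNoetherian X] [IsNoetherian Y]


theorem dim_zero_of_isol {U : X.Opens} (h : ∀ x ∈ U, x ∈ isol X) : topologicalKrullDim (U : Scheme.{u}) ≤ 0 := by
  have : DiscreteTopology (U : Scheme.{u}) := by
    refine discreteTopology_iff_isOpen_singleton.mpr fun x => ?_
    have h1 : ({x} : Set (U : Scheme.{u})) = U.ι ⁻¹' {U.ι x} := by
      rw [← Set.image_singleton, Set.preimage_image_eq _ U.ι.injective]
    rw [h1]
    exact (h x.1 x.2).1.preimage U.ι.continuous
  exact topologicalKrullDim_zero_of_discreteTopology _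

include hc in
/-- Over isolated points the contraction is an isomorphism. -/
theorem mem_isol_of_fibre (hdim : topologicalKrullDim X = 1) (hu : IsIso (ClSub.unitToPush c))
    (hO : LocVan c (Coh.structureModule X)) [IsReduced X]
    (hG : ∀ x : X, LocCoh.IsGorensteinLocalRing (X.presheaf.stalk x))
    {w : X.Modules} (hw : Coh.IsQCoh w) {t : Coh.HH X w 1 →ₗ[k] k} (ht : IsPair k t)
    (m : ℕ) (hm : 1 ≤ m) (hgg : Curv2.IsGloballyGenerated (CohB1.tensorPow w m))
    {x : X} (hx : c x ∈ isol Y) : x ∈ isol X := by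
  have hPc := K900.FieldThm.isProper_c c k hc
  let V : Y.Opens := ⟨{c x}, hx.1⟩
  let F : X.Opens := c ⁻¹ᵁ V
  have hFcl : IsClosed (F : Set X) := hx.2.preimage c.continuous
  have hxF : x ∈ F := rfl
  have hconn : _root_.IsPreconnected (F : Set X) := K900.FieldThm.isPreconnected_fibre c hu (c x)
  have hconn' : ConnectedSpace (F : Scheme.{u}) :=
    isConnected_iff_connectedSpace.mp ⟨⟨x, hxF⟩, hconn⟩
  have hN := isNoetherian_opens F
  have hdle := dim_le_of_opens (U := F) hdim.le
  by_cases hd : topologicalKrullDim (F : Scheme.{u}) ≤ 0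
  · obtain ⟨-, hdis⟩ := K284.TopDim.finite_discrete_of_dim_le_zero hd
    have : (⟨x, hxF⟩ : (F : Scheme.{u})) ∈ isol (F : Scheme.{u}) := ⟨isOpen_discrete _, isClosed_discrete _⟩
    exact (mem_isol_iff hFcl _).mp this
  · exfalso
    have hd1 : topologicalKrullDim (F : Scheme.{u}) = 1 := by
      refine le_antisymm hdle ?_
      by_contra hlt
      apply hd
      cases h : topologicalKrullDim (F : Scheme.{u}) with
      | bot => exact bot_le
      | coe n =>
        rw [h, not_le] at hlt
        have h3 : n < 1 := by exact_mod_cast hlt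
        have h4 : n = 0 := Order.lt_one_iff.mp h3
        rw [h4]; rfl
    have hpure := CurvesC.TailMain.pure_of_connected (F : Scheme.{u}) hd1
    have hP := isProper_opens k (Compl.of_isClosed hFcl)
    obtain ⟨t', ht'⟩ := exists_isPair k (Compl.of_isClosed hFcl) hw ht
    have hwF := isInvertible k hd1 hpure (gorenstein_opens hG F) (isQCoh_restrict hw F) ht'
    have hdeg := degC_nonneg k hpure hwF m hm (gg_pow_restrict F hgg)
    have e1 := K900.Tot.euler_dual k hd1 (K900.UnptField.isInvertible_unit _) hwF (K900.UnptField.lu _) ht'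
    have e2 := K900.Tot.deg_eq_sum k hd1.le hpure hwF
    have e3 : 0 ≤ Curv2.deg k (F : Scheme.{u}) (w.restrict F.ι) 1 := by
      rw [e2]; exact finsum_nonneg hdeg
    have hV : IsAffineOpen V := by
      have i1 : Subsingleton (V : Scheme.{u}) := ⟨fun a b => Subtype.ext (a.2.trans b.2.symm)⟩
      have i2 : Nonempty (V : Scheme.{u}) := ⟨⟨c x, rfl⟩⟩
      exact CurvesC.PointScheme.isAffine_of_subsingleton
    have h1 : Subsingleton (Coh.HH (F : Scheme.{u}) (Coh.structureModule (F : Scheme.{u})) 1) :=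
      (K896.Contr.HHon_iff_open F 1).mp (hO V hV 0)
    have h0 := CurvesB.VanAsm464.finrank_H0_pos k (X := (F : Scheme.{u}))
    have e4 := CurvesC.CurveCoh.euler_eq k (F : Scheme.{u}) hd1 (Coh.structureModule (F : Scheme.{u}))
    rw [Module.finrank_zero_of_subsingleton (M := Coh.HH (F : Scheme.{u}) (Coh.structureModule (F : Scheme.{u})) 1)] at e4
    unfold Curv2.deg at e3
    rw [e1, e4] at e3
    push_cast at e3
    omega

include hc in
theorem notMem_isol (hu : IsIso (ClSub.unitToPush c)) {x : X}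
    (hx : c x ∉ isol Y) : x ∉ isol X := by
  intro hxi
  have hPc := K900.FieldThm.isProper_c c k hc
  have hs : Function.Surjective c.base := (K900.UnptField.surjective_of_unit c hu).1
  have hconn : _root_.IsPreconnected (c.base ⁻¹' {c x}) := K900.FieldThm.isPreconnected_fibre c hu (c x)
  have hF : ∀ z : X, c z = c x → z = x := by
    intro z hz
    by_contra hne
    obtain ⟨y, -, hy, hy'⟩ := hconn {x} {x}ᶜ hxi.1 hxi.2.isOpen_compl (fun y _ => em _) ⟨x, rfl, rfl⟩ ⟨z, hz, hne⟩
    exact hy' hy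
  apply hx
  refine ⟨?_, ?_⟩
  · have h1 : ({c x} : Set Y) = (c.base '' {x}ᶜ)ᶜ := by
      ext y
      constructor
      · rintro rfl ⟨z, hz, hzx⟩
        exact hz (hF z hzx)
      · intro hy
        obtain ⟨z, rfl⟩ := hs y
        by_contra hne
        exact hy ⟨z, fun h => hne (by rw [h]; rfl), rfl⟩
    rw [h1]
    exact (c.isClosedMap _ hxi.1.isClosed_compl).isOpen_compl
  · have h1 := c.isClosedMap _ hxi.2
    rwa [Set.image_singleton] at h1

/-- The pullback and the restriction to the inverse image of an open set. -/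
theorem nonempty_pullback_restrict (V : Y.Opens) (M : Y.Modules) :
    Nonempty (((Scheme.Modules.pullback c).obj M).restrict (c ⁻¹ᵁ V).ι ≅
      (Scheme.Modules.pullback (c ∣_ V)).obj (M.restrict V.ι)) :=
  ⟨(Scheme.Modules.restrictFunctorIsoPullback (c ⁻¹ᵁ V).ι).app _ ≪≫
    (Scheme.Modules.pullbackComp (c ⁻¹ᵁ V).ι c).app M ≪≫
    (Scheme.Modules.pullbackCongr (morphismRestrict_ι c V).symm).app M ≪≫
    ((Scheme.Modules.pullbackComp (c ∣_ V) V.ι).app M).symm ≪≫
    (Scheme.Modules.pullback (c ∣_ V)).mapIso ((Scheme.Modules.restrictFunctorIsoPullback V.ι).app M).symm⟩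

include hc in
/-- **The dualizing module of a Gorenstein curve is the pullback of the dualizing module of its contraction.** -/
theorem main (hdim : topologicalKrullDim X = 1) (hdimY : topologicalKrullDim Y = 1)
    (hu : IsIso (ClSub.unitToPush c)) (hO : LocVan c (Coh.structureModule X)) [IsReduced X]
    (hG : ∀ x : X, LocCoh.IsGorensteinLocalRing (X.presheaf.stalk x))
    (hGY : ∀ y : Y, LocCoh.IsGorensteinLocalRing (Y.presheaf.stalk y))
    {w : X.Modules} (hw : Coh.IsQCoh w) {t : Coh.HH X w 1 →ₗ[k] k} (ht : IsPair k t)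
    {wY : Y.Modules} (hwY : Coh.IsQCoh wY) {tY : Coh.HH Y wY 1 →ₗ[k] k} (htY : IsPair k tY)
    (m : ℕ) (hm : 1 ≤ m) (hgg : Curv2.IsGloballyGenerated (CohB1.tensorPow w m)) :
    Nonempty ((Scheme.Modules.pullback c).obj wY ≅ w) := by
  let S : Y.Opens := ⟨isol Y, isOpen_isol⟩
  let V : Y.Opens := ⟨(isol Y)ᶜ, isClosed_isol.isOpen_compl⟩
  have hVS : Compl V S := (Compl.of_isClosed (U := S) isClosed_isol).symm
  let U : X.Opens := c ⁻¹ᵁ V
  let T : X.Opens := c ⁻¹ᵁ S
  have hUT : Compl U T := by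
    constructor
    · have h1 : c ⁻¹ᵁ (V ⊓ S) = c ⁻¹ᵁ ⊥ := by rw [hVS.inf]
      exact h1
    · have h1 : c ⁻¹ᵁ (V ⊔ S) = c ⁻¹ᵁ ⊤ := by rw [hVS.sup]
      exact h1
  have hs : Function.Surjective c.base := by
    have hPc := K900.FieldThm.isProper_c c k hc
    exact (K900.UnptField.surjective_of_unit c hu).1
  have hdT : topologicalKrullDim (T : Scheme.{u}) ≤ 0 :=
    dim_zero_of_isol fun x hx => mem_isol_of_fibre c k hc hdim hu hO hG hw ht m hm hgg hx
  have hdS : topologicalKrullDim (S : Scheme.{u}) ≤ 0 := dim_zero_of_isol fun y hy => hy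
  have hNU := isNoetherian_opens U
  have hNV := isNoetherian_opens V
  have hPU := isProper_opens k hUT
  have hPV := isProper_opens k hVS
  have hpU := pure_of_no_isolated (U : Scheme.{u}) (dim_le_of_opens hdim.le)
    (fun z hz => notMem_isol c k hc hu z.2 ((mem_isol_iff hUT.isClosed z).mp hz))
  have hpV := pure_of_no_isolated (V : Scheme.{u}) (dim_le_of_opens hdimY.le)
    (fun z hz => z.2 ((mem_isol_iff hVS.isClosed z).mp hz))
  have hneV : Nonempty (V : Scheme.{u}) := by
    by_contra hemp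
    rw [not_nonempty_iff] at hemp
    have h1 : DiscreteTopology Y := by
      refine discreteTopology_iff_isOpen_singleton.mpr fun y => ?_
      by_contra hy
      exact hemp.false ⟨y, fun h => hy h.1⟩
    have h2 := topologicalKrullDim_zero_of_discreteTopology Y
    rw [hdimY] at h2
    exact absurd h2 (by norm_num)
  have hneU : Nonempty (U : Scheme.{u}) := by
    obtain ⟨y, hy⟩ := hneV
    obtain ⟨x, rfl⟩ := hs y
    exact ⟨⟨x, hy⟩⟩
  have hdU := dim_eq_one (dim_le_of_opens (U := U) hdim.le) hpU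
  have hdV := dim_eq_one (dim_le_of_opens (U := V) hdimY.le) hpV
  have hcon : K896.Contr.IsCon c := ⟨fun W => K900.Tot.app_bijective c hu W, hO⟩
  have hcon' := hcon.restrict V
  obtain ⟨t', ht'⟩ := exists_isPair k hUT hw ht
  obtain ⟨tY', htY'⟩ := exists_isPair k hVS hwY htY
  have hwU := isInvertible k hdU hpU (gorenstein_opens hG U) (isQCoh_restrict hw U) ht'
  have hwV := isInvertible k hdV hpV (gorenstein_opens hGY V) (isQCoh_restrict hwY V) htY'
  have hdeg := degC_nonneg k hpU hwU m hm (gg_pow_restrict U hgg)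
  have hc' : (c ∣_ V) ≫ ((V : Scheme.{u}) ↘ Spec (CommRingCat.of k)) =
      ((U : Scheme.{u}) ↘ Spec (CommRingCat.of k)) := by
    change (c ∣_ V) ≫ V.ι ≫ (Y ↘ Spec (CommRingCat.of k)) = U.ι ≫ (X ↘ Spec (CommRingCat.of k))
    rw [← Category.assoc, morphismRestrict_ι, Category.assoc, hc]
  obtain ⟨e1⟩ := K326.GorContr.nonempty_iso (c ∣_ V) k hc' hdU hdV hpU hpV hcon'.isIso_unit hcon'.van hwU ht'
    hwV htY' hdeg
  obtain ⟨e2⟩ := nonempty_pullback_restrict c V wY
  refine Clopen.nonempty_iso hUT ?_ (vanish k hUT hdT hw ht) (e2 ≪≫ e1)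
  intro W hW
  refine subsingleton_of_stalks fun x hx => ?_
  have h1 : Subsingleton (wY.presheaf.stalk (c x)) :=
    subsingleton_stalk (vanish k hVS hdS hwY htY) (hW hx)
  exact CycB.PullLen.subsingleton_stalk_pullback c wY x

end K326.GorMain
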