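import Groth.Agent.CurvesB.NodeSub
import Groth.Agent.CurvesB.NodeGor

/-!
# Two complementary branches at an ordinary double point meet transversally

`sup_eq_maximalIdeal`: `A → R` flat local with `R` an ordinary double point, `I`, `J` nonzero ideals of `A` with
`I * J = 0` and `A ⧸ I`, `A ⧸ J` reduced and not fields; then `I ⊔ J` is the maximal ideal.
-/

set_option autoImplicit false
universe u
open IsLocalRing

namespace K326.NodeInterAlg

open Groth.Agent.CurvesB.NodeRing Groth.Agent.CurvesB.GorDimOne Groth.Agent.CurvesB.NodeSch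
open Groth.Agent.CurvesB.NodeSub

/-- The branch ideals: a nonzero ideal whose quotient is reduced and not a field extends to one of the two branches. -/
theorem map_eq_ker {K A R : Type u} [Field K] [CommRing R] [Algebra K R]
    [IsLocalRing R] [IsNoetherianRing R]
    [CommRing A] [IsLocalRing A] [IsNoetherianRing A] [Algebra A R]
    [Module.Flat A R] [IsLocalHom (algebraMap A R)]
    {φ ψ : AdicCompletion (maximalIdeal R) R →+* PowerSeries K}
    (hN : IsNodeRing K (AdicCompletion (maximalIdeal R) R) φ ψ)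
    (J : Ideal A) [IsReduced (A ⧸ J)] (hJtop : J ≠ ⊤) (hJ : ¬ IsField (A ⧸ J)) (hJ0 : J ≠ ⊥) :
    J.map (algebraMap A (AdicCompletion (maximalIdeal R) R)) = RingHom.ker ψ ∨
      J.map (algebraMap A (AdicCompletion (maximalIdeal R) R)) = RingHom.ker φ := by
  let B := AdicCompletion (maximalIdeal R) R
  have hnt : Nontrivial (A ⧸ J) := Ideal.Quotient.nontrivial_iff.mpr hJtop
  have h1 : Module.Flat A B := Module.Flat.trans A R B
  have h2 : IsLocalHom (algebraMap A B) := by
    rw [IsScalarTower.algebraMap_eq A R]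
    infer_instance
  have h3 : Module.FaithfullyFlat A B := Module.FaithfullyFlat.of_flat_of_isLocalHom
  have iloc : IsLocalRing (A ⧸ J) :=
    IsLocalRing.of_surjective' (Ideal.Quotient.mk J) Ideal.Quotient.mk_surjective
  obtain ⟨f', hf'm, hf'⟩ : ∃ f ∈ maximalIdeal (A ⧸ J), f ∈ nonZeroDivisors (A ⧸ J) := by
    by_contra hcon
    push Not at hcon
    exact hJ (isField_of_disjoint hcon)
  obtain ⟨f, rfl⟩ := Ideal.Quotient.mk_surjective f'
  have hfm : f ∈ maximalIdeal A := by
    rw [mem_maximalIdeal, mem_nonunits_iff] at hf'm ⊢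
    exact fun hu => hf'm (hu.map _)
  have hf : ∀ a, f * a ∈ J → a ∈ J := by
    intro a ha
    rw [← Ideal.Quotient.eq_zero_iff_mem, map_mul] at ha
    rw [← Ideal.Quotient.eq_zero_iff_mem]
    exact (mul_right_mem_nonZeroDivisors_eq_zero_iff hf').mp (by rwa [mul_comm] at ha)
  have hJle : J ≤ maximalIdeal A := IsLocalRing.le_maximalIdeal hJtop
  have hJB : J.map (algebraMap A B) ≠ ⊤ := by
    intro htop
    have h4 := ((IsLocalRing.local_hom_TFAE (algebraMap A B)).out 0 2 rfl rfl).mp h2
    have h5 := (Ideal.map_mono hJle).trans h4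
    rw [htop, top_le_iff] at h5
    exact (maximalIdeal.isMaximal B).ne_top h5
  have hf0 : PowerSeries.constantCoeff (φ (algebraMap A B f)) = 0 := by
    rw [← hN.mem_maximalIdeal_iff]
    exact ((IsLocalRing.local_hom_TFAE (algebraMap A B)).out 0 2 rfl rfl).mp h2
      (Ideal.mem_map_of_mem _ hfm)
  rcases hN.ideal_cases hJB hf0 (mem_map_of_flat J f hf) with h4 | h4 | h4
  · exfalso
    rw [Ideal.map_eq_bot_iff_le_ker] at h4
    apply hJ0
    rw [eq_bot_iff]
    refine h4.trans ?_
    rw [(RingHom.injective_iff_ker_eq_bot _).mp (FaithfulSMul.algebraMap_injective A B)]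
  · exact Or.inl h4
  · exact Or.inr h4

theorem sup_eq_maximalIdeal {K A R : Type u} [Field K] [CommRing R] [Algebra K R]
    [IsLocalRing R] [IsNoetherianRing R] (h : Curv2.IsOrdDoublePt K R)
    [CommRing A] [IsLocalRing A] [IsNoetherianRing A] [Algebra A R]
    [Module.Flat A R] [IsLocalHom (algebraMap A R)]
    (I J : Ideal A) [IsReduced (A ⧸ I)] [IsReduced (A ⧸ J)] (hItop : I ≠ ⊤) (hJtop : J ≠ ⊤)
    (hI : ¬ IsField (A ⧸ I)) (hJ : ¬ IsField (A ⧸ J)) (hI0 : I ≠ ⊥) (hJ0 : J ≠ ⊥)
    (hIJ : I * J = ⊥) : I ⊔ J = maximalIdeal A := by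
  obtain ⟨φ, ψ, hN, -, -⟩ := exists_isNodeRing h
  let B := AdicCompletion (maximalIdeal R) R
  have h1 : Module.Flat A B := Module.Flat.trans A R B
  have h2 : IsLocalHom (algebraMap A B) := by
    rw [IsScalarTower.algebraMap_eq A R]
    infer_instance
  have h3 : Module.FaithfullyFlat A B := Module.FaithfullyFlat.of_flat_of_isLocalHom
  have hIc := map_eq_ker hN I hItop hI hI0
  have hJc := map_eq_ker hN J hJtop hJ hJ0
  have hprod : I.map (algebraMap A B) * J.map (algebraMap A B) = ⊥ := by
    rw [← Ideal.map_mul, hIJ, Ideal.map_bot]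
  -- the two branches are different
  have hno : ∀ (α β : B →+* PowerSeries K), IsNodeRing K B α β → RingHom.ker β * RingHom.ker β ≠ ⊥ := by
    intro α β hαβ h0
    obtain ⟨u, hu1, hu2⟩ := hαβ.exists_fst 0
    have h4 : u * u ∈ RingHom.ker β * RingHom.ker β :=
      Ideal.mul_mem_mul (RingHom.mem_ker.mpr hu2) (RingHom.mem_ker.mpr hu2)
    rw [h0, Ideal.mem_bot] at h4
    have h5 := congrArg α h4
    rw [map_mul, map_zero, hu1] at h5
    exact (mul_ne_zero (pow_ne_zero 1 (PowerSeries.X_ne_zero (R := K))) (pow_ne_zero 1 (PowerSeries.X_ne_zero (R := K)))) h5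
  have hsup : RingHom.ker ψ ⊔ RingHom.ker φ = maximalIdeal B := by
    apply le_antisymm
    · refine sup_le (fun b hb => ?_) (fun b hb => ?_)
      · rw [hN.mem_maximalIdeal_iff, hN.const, RingHom.mem_ker.mp hb, map_zero]
      · rw [hN.mem_maximalIdeal_iff, RingHom.mem_ker.mp hb, map_zero]
    · intro b hb
      rw [hN.mem_maximalIdeal_iff] at hb
      obtain ⟨u, hu1, hu2⟩ := hN.exists_fst' (φ b) hb
      have : b = u + (b - u) := by ring
      rw [this]
      exact Submodule.add_mem_sup (RingHom.mem_ker.mpr hu2)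
        (RingHom.mem_ker.mpr (by rw [map_sub, hu1, sub_self]))
  have hkey : (I ⊔ J).map (algebraMap A B) = maximalIdeal B := by
    rw [Ideal.map_sup]
    rcases hIc with hIc | hIc <;> rcases hJc with hJc | hJc
    · exfalso
      rw [hIc, hJc] at hprod
      exact hno φ ψ hN hprod
    · rw [hIc, hJc, hsup]
    · rw [hIc, hJc, sup_comm, hsup]
    · exfalso
      rw [hIc, hJc] at hprod
      exact hno ψ φ hN.symm hprod
  apply le_antisymm
  · exact sup_le (IsLocalRing.le_maximalIdeal hItop) (IsLocalRing.le_maximalIdeal hJtop)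
  · rw [← Ideal.comap_map_eq_self_of_faithfullyFlat (B := B) (I ⊔ J), hkey]
    intro a ha
    rw [Ideal.mem_comap]
    exact ((IsLocalRing.local_hom_TFAE (algebraMap A B)).out 0 2 rfl rfl).mp h2
      (Ideal.mem_map_of_mem _ ha)

end K326.NodeInterAlg
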