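import Groth.Agent.Curves.K326.DegPts
import Groth.Agent.IntTh.K712.IdealStalk
import Groth.Agent.VarietyB.DegCartier
import Groth.Agent.VarietyA.SmoothReg
import Groth.Agent.VarietyA.SmoothLocusSch
import Groth.Agent.CurvesC.EulerHV
import Groth.Agent.S0047
import Groth.Prelude.Def_TorSh

/-!
# The ideal module of a finite set of closed points on a curve

* `isTorsionFree_idealMod`, `finrank_stalk_eq_one`;
* `euler_idealMod`: `χ(I_S) = χ(O) - #S` for a finite set `S` of closed points over an algebraically closed field;
* `isInvertible_iff_smooth`: `m_P` is invertible iff `X` is smooth near `P`.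
-/

set_option autoImplicit false
set_option maxHeartbeats 400000
universe u
open CategoryTheory CategoryTheory.Limits AlgebraicGeometry TopologicalSpace Opposite IsLocalRing

namespace K326.PtIdeal

open Groth.Agent.Divis.CartierBasic Groth.Agent.Divis.CartierStalk Groth.Agent.CurvesC.TailGeom
open Groth.Agent.CurvesB Groth.Agent.CurvesC K326.StalkVan K326.PtsDiv K326.DegPts Groth.Agent
open Groth.Agent.CurvesC.TailNum Groth.Agent.CurvesC.DegIso K712.IdealStalk

variable {X : Scheme.{u}}

theorem isTorsionFree_idealMod (I : X.IdealSheafData) : TorSh.IsTorsionFree (ClSub.idealMod I) := by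
  intro x
  refine ⟨fun r hr => ?_⟩
  intro a b hab
  have h1 : r • a = r • b := hab
  apply sval_injective I x
  apply hr.left
  have h2 := congrArg (sval I x) h1
  rw [map_smul, map_smul] at h2
  exact h2

theorem stalkIdeal_eq_top {I : X.IdealSheafData} {x : X} (hx : x ∉ I.support) : stalkIdeal I x = ⊤ :=
  (notMem_support_iff_stalkIdeal_eq_top I x).mp hx

/-- Away from the support the stalk of the ideal module is the local ring. -/
noncomputable def stalkEquiv {I : X.IdealSheafData} {x : X} (hx : x ∉ I.support) :
    (ClSub.idealMod I).presheaf.stalk x ≃ₗ[X.presheaf.stalk x] X.presheaf.stalk x :=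
  LinearEquiv.ofBijective (sval I x) ⟨sval_injective I x, fun a => exists_sval_eq I x (by
    have h : IntMult.stalkIdeal I x = ⊤ := stalkIdeal_eq_top hx
    rw [h]; trivial)⟩

theorem finrank_stalk_eq_one {I : X.IdealSheafData} {x : X} (hx : x ∉ I.support) :
    Module.finrank (X.presheaf.stalk x) ((ClSub.idealMod I).presheaf.stalk x) = 1 := by
  rw [(stalkEquiv hx).finrank_eq, Module.finrank_self]

/-- A generic point of a component of dimension one is not closed. -/
theorem not_isClosed_of_generic {η : X} (hd : topologicalKrullDim (closure ({η} : Set X)) = 1) :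
    ¬ IsClosed ({η} : Set X) := by
  intro h
  rw [h.closure_eq] at hd
  have := topologicalKrullDim_singleton_le η
  rw [hd] at this
  exact absurd this (by decide)

section euler

variable (k : Type u) [Field k] [IsAlgClosed k] (X) [X.Over (Spec (CommRingCat.of k))]
  [IsProper (X ↘ (Spec (CommRingCat.of k)))]

/-- `χ(O/I) = #V(I)` when `V(I)` is a finite set of closed points with reduced structure. -/
theorem euler_quotMod (I : X.IdealSheafData) (hfin : (I.support : Set X).Finite)
    (hcl : ∀ x ∈ I.support, IsClosed ({x} : Set X))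
    (hI : ∀ x ∈ I.support, stalkIdeal I x = maximalIdeal (X.presheaf.stalk x)) :
    Curv2.euler k X (ClSub.quotMod I) = (I.support : Set X).ncard := by
  have hN : IsNoetherian X := Groth.Agent.VarietyB.DegFin.isNoetherian_of_isProper k X
  have := isFinite_of_finite k X I hfin
  rw [← finrank_quotMod_eq_ncard k X I hI]
  exact VarietyA.EulerFinite.euler_eq_of_vanish k X _ fun i hi =>
    Groth.Agent.S0047.result X _ (VarietyB.DegCartier.isCoh_quotMod I)
      (fun x hx => hcl x (VarietyB.DegCartier.support_quotMod_subset I hx)) i hi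

theorem euler_idealMod (I : X.IdealSheafData) (hfin : (I.support : Set X).Finite)
    (hcl : ∀ x ∈ I.support, IsClosed ({x} : Set X))
    (hI : ∀ x ∈ I.support, stalkIdeal I x = maximalIdeal (X.presheaf.stalk x)) :
    Curv2.euler k X (ClSub.idealMod I) = Curv2.euler k X (Coh.structureModule X) - (I.support : Set X).ncard := by
  have hN : IsNoetherian X := Groth.Agent.VarietyB.DegFin.isNoetherian_of_isProper k X
  have h1 := Groth.Agent.S1524.result k X _ (VarietyB.DegCartier.idealSeq_shortExact I)
    (VarietyB.DegCartier.isCoh_idealMod I) (CurvesB.UnitCoh.isCoh_structureModule X)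
    (VarietyB.DegCartier.isCoh_quotMod I)
  have h2 := euler_quotMod X k I hfin hcl hI
  have h3 : Curv2.euler k X (Coh.structureModule X) =
    Curv2.euler k X (ClSub.idealMod I) + Curv2.euler k X (ClSub.quotMod I) := h1
  rw [h3, h2]
  ring

end euler

/-- A Noetherian local ring whose maximal ideal is generated by a nonzerodivisor is regular. -/
theorem isRegular_of_gen {A : Type u} [CommRing A] [IsLocalRing A] [IsNoetherianRing A] (g : A)
    (hg : g ∈ nonZeroDivisors A) (h : maximalIdeal A = Ideal.span {g}) : IsRegularLocalRing A := by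
  have h1 : IsField (A ⧸ Ideal.span {g}) := by
    rw [← h]
    exact (Ideal.Quotient.maximal_ideal_iff_isField_quotient _).mp (maximalIdeal.isMaximal A)
  have hgm : g ∈ maximalIdeal A := h ▸ Ideal.mem_span_singleton_self g
  let _ := h1.toField
  have h2 : IsRegularLocalRing (A ⧸ Ideal.span {g}) := inferInstance
  exact Groth.Agent.CalgA.RegBasic.of_quotient g hgm hg

/-- The local ring of a closed point is not a field if all components have dimension one. -/
theorem not_isField_stalk (hequi : ∀ Z ∈ irreducibleComponents (X : Type u), topologicalKrullDim Z = 1)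
    (P : X) (hP : IsClosed ({P} : Set X)) : ¬ IsField (X.presheaf.stalk P) := by
  intro hf
  have h1 := not_isField (⊤ : Closeds X) (irreducibleComponent P) (irreducibleComponent_mem_irreducibleComponents P)
    (hequi _ (irreducibleComponent_mem_irreducibleComponents P)) (Set.subset_univ _) P hP mem_irreducibleComponent
  apply h1
  have h2 : stalkIdeal (Scheme.IdealSheafData.vanishingIdeal (⊤ : Closeds X)) P ≠ ⊤ := by
    rw [← mem_support_iff_stalkIdeal_ne_top, ← SetLike.mem_coe,
      Scheme.IdealSheafData.coe_support_vanishingIdeal]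
    trivial
  have h3 : stalkIdeal (Scheme.IdealSheafData.vanishingIdeal (⊤ : Closeds X)) P = ⊥ := by
    by_contra h4
    let _ := hf.toField
    rcases Ideal.eq_bot_or_top (stalkIdeal (Scheme.IdealSheafData.vanishingIdeal (⊤ : Closeds X)) P) with h5 | h5
    · exact h4 h5
    · exact h2 h5
  rw [h3]
  exact (RingEquiv.quotientBot (X.presheaf.stalk P)).toMulEquiv.isField hf

section point

variable (P : X) (hP : IsClosed ({P} : Set X))

theorem mem_support_iff (x : X) :
    x ∈ (Scheme.IdealSheafData.vanishingIdeal ⟨{P}, hP⟩ : X.IdealSheafData).support ↔ x = P := by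
  rw [← SetLike.mem_coe, Scheme.IdealSheafData.coe_support_vanishingIdeal]
  exact Iff.rfl

theorem stalkIdeal_point :
    stalkIdeal (Scheme.IdealSheafData.vanishingIdeal ⟨{P}, hP⟩) P = maximalIdeal (X.presheaf.stalk P) :=
  stalkIdeal_vanishingIdeal_eq_maximalIdeal ⟨{P}, hP⟩ P rfl fun _ hy _ => hy

/-- `m_P` is invertible iff the maximal ideal of the local ring is generated by a nonzerodivisor. -/
theorem isInvertible_iff_gen [IsLocallyNoetherian X] :
    PicF.IsInvertible (ClSub.idealMod (Scheme.IdealSheafData.vanishingIdeal ⟨{P}, hP⟩)) ↔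
      ∃ g ∈ nonZeroDivisors (X.presheaf.stalk P), maximalIdeal (X.presheaf.stalk P) = Ideal.span {g} := by
  rw [Dix.IdealModCartier.isInvertible_idealMod_iff]
  constructor
  · intro h
    obtain ⟨g, hg, h1⟩ := exists_stalkIdeal_eq_span h P
    exact ⟨g, hg, by rw [← h1, stalkIdeal_point]⟩
  · rintro ⟨g, hg, h1⟩
    refine isEffCartierIdeal_of_stalkIdeal _ fun y hy => ?_
    obtain rfl := (mem_support_iff P hP y).mp hy
    exact ⟨g, hg, by rw [stalkIdeal_point, h1]⟩

theorem isInvertible_iff_smooth (k : Type u) [Field k] [IsAlgClosed k] [X.Over (Spec (CommRingCat.of k))]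
    [LocallyOfFiniteType (X ↘ (Spec (CommRingCat.of k)))] [IsReduced X]
    (hequi : ∀ Z ∈ irreducibleComponents (X : Type u), topologicalKrullDim Z = 1) :
    PicF.IsInvertible (ClSub.idealMod (Scheme.IdealSheafData.vanishingIdeal ⟨{P}, hP⟩)) ↔
      ∃ U : X.Opens, P ∈ U ∧ Smooth (U.ι ≫ (X ↘ (Spec (CommRingCat.of k)))) := by
  have hN : IsLocallyNoetherian X := LocallyOfFiniteType.isLocallyNoetherian (X ↘ (Spec (CommRingCat.of k)))
  rw [isInvertible_iff_gen P hP]
  constructor
  · rintro ⟨g, hg, h1⟩
    have hreg : IsRegularLocalRing (X.presheaf.stalk P) := by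
      exact isRegular_of_gen g hg h1
    have hfp : LocallyOfFinitePresentation (X ↘ (Spec (CommRingCat.of k))) := inferInstance
    exact ⟨(X ↘ (Spec (CommRingCat.of k))).smoothLocus,
      (VarietyA.SmoothReg.mem_smoothLocus_iff_of_perfectField (X ↘ (Spec (CommRingCat.of k))) P).2 hreg,
      VarietyA.SmoothLocusSch.smooth_smoothLocus_ι (X ↘ (Spec (CommRingCat.of k)))⟩
  · intro h
    have hreg := NodeSch2.isRegularLocalRing_of_exists k P h
    have hdim1 := NodeSch2.krullDimLE_one_stalk (EulerHV.dim_le X hequi) P
    exact exists_gen (not_isField_stalk hequi P hP)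

end point

end K326.PtIdeal
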