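import Groth.Agent.Curves.K326.StalkVan
import Groth.Agent.CurvesC.NodalLen
import Groth.Agent.CurvesC.TailUnion
import Groth.Agent.CurvesC.CurveCoh
import Groth.Agent.Sga5.H844.FinLen
import Groth.Agent.S1604

/-!
# The divisor of finitely many smooth closed points on a curve, restricted to unions of components
-/

set_option autoImplicit false
set_option maxHeartbeats 400000
universe u
open CategoryTheory CategoryTheory.Limits AlgebraicGeometry TopologicalSpace Opposite IsLocalRing

namespace K326.PtsDiv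

open Groth.Agent.Divis.CartierBasic Groth.Agent.Divis.CartierStalk Groth.Agent.CurvesC.TailGeom
open Groth.Agent.CurvesB Groth.Agent.CurvesC K326.StalkVan

variable {X : Scheme.{u}}

theorem map_maximalIdeal_of_surjective {A B : Type*} [CommRing A] [CommRing B] [IsLocalRing A] [IsLocalRing B]
    (f : A →+* B) (hf : Function.Surjective f) : (maximalIdeal A).map f = maximalIdeal B := by
  have h1 : IsLocalHom f := .of_surjective f hf
  apply le_antisymm
  · exact ((IsLocalRing.local_hom_TFAE f).out 0 2 rfl rfl).mp h1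
  · intro b hb
    obtain ⟨a, rfl⟩ := hf b
    refine Ideal.mem_map_of_mem f ?_
    rw [mem_maximalIdeal, mem_nonunits_iff] at hb ⊢
    exact fun h => hb (h.map f)

theorem topologicalKrullDim_singleton_le {T : Type*} [TopologicalSpace T] (x : T) :
    topologicalKrullDim ({x} : Set T) ≤ 0 := by
  have : Subsingleton (IrreducibleCloseds ({x} : Set T)) := by
    refine ⟨fun a b => ?_⟩
    apply IrreducibleCloseds.ext
    have ha := a.isIrreducible.1
    have hb := b.isIrreducible.1
    exact ha.eq_univ.trans hb.eq_univ.symm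
  exact Order.krullDim_nonpos_of_subsingleton

/-- A closed point on a one-dimensional component of `X` contained in `S`: `O_x / I_{S,x}` is not a field. -/
theorem not_isField (S : Closeds X) (Z : Set X) (hZ : Z ∈ irreducibleComponents (X : Type u))
    (hZ1 : topologicalKrullDim Z = 1) (hZS : Z ⊆ S) (x : X) (hx : IsClosed ({x} : Set X)) (hxZ : x ∈ Z) :
    ¬ IsField (X.presheaf.stalk x ⧸ stalkIdeal (Scheme.IdealSheafData.vanishingIdeal S) x) := by
  intro hf
  have hZc : IsClosed Z := isClosed_of_mem_irreducibleComponents Z hZ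
  obtain ⟨η, hη⟩ := QuasiSober.sober hZ.1 hZc
  have hηx : η ⤳ x := by
    rw [specializes_iff_mem_closure, hη.def]; exact hxZ
  have hηS : η ∈ S := hZS (by rw [← hη.def]; exact subset_closure rfl)
  obtain ⟨q, hq⟩ := exists_prime hηx
  have h1 := (mem_vanishing_iff S x q).mpr (by rw [hq]; exact hηS)
  have h2 := Ideal.Quotient.maximal_of_isField _ hf
  have h3 := h2.eq_of_le q.2.ne_top h1
  have h4 : q = closedPoint _ := by
    apply PrimeSpectrum.ext
    rw [← h3]
    exact IsLocalRing.eq_maximalIdeal h2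
  rw [h4, Scheme.fromSpecStalk_closedPoint] at hq
  subst hq
  have h5 : Z = {x} := by
    rw [← hη.def, hx.closure_eq]
  rw [h5] at hZ1
  have := topologicalKrullDim_singleton_le x
  rw [hZ1] at this
  exact absurd this (by decide)

variable (k : Type u) [Field k] [X.Over (Spec (CommRingCat.of k))]

/-- The maximal ideal of a one-dimensional regular local ring is generated by a nonzerodivisor. -/
theorem exists_gen {A : Type u} [CommRing A] [IsRegularLocalRing A] [Ring.KrullDimLE 1 A]
    (hA : ¬ IsField A) : ∃ g ∈ nonZeroDivisors A, maximalIdeal A = Ideal.span {g} := by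
  have hD : IsDomain A := Groth.Agent.S0558.result A
  have h1 : ringKrullDim A = 1 := by
    apply le_antisymm
    · exact (Ring.krullDimLE_iff (n := 1) (R := A)).mp inferInstance
    · by_contra hcon
      apply hA
      have h2 : ringKrullDim A ≤ 0 := by
        rw [not_le] at hcon
        have h3 : ringKrullDim A < ((0 : ℕ) : WithBot ℕ∞) + 1 := by simpa using hcon
        simpa using ENat.WithBot.lt_add_one_iff.mp h3
      have : Ring.KrullDimLE 0 A := (Ring.krullDimLE_iff (n := 0) (R := A)).mpr (by simpa using h2)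
      exact Ring.KrullDimLE.isField_of_isReduced (R := A)
  obtain ⟨_, _⟩ := (Groth.Agent.S0549.dvr_iff A).mpr ⟨inferInstance, h1⟩
  obtain ⟨t, ht⟩ := IsDiscreteValuationRing.exists_irreducible A
  exact ⟨t, mem_nonZeroDivisors_of_ne_zero ht.ne_zero, ht.maximalIdeal_eq⟩

theorem exists_gen_of_equiv {A B : Type*} [CommRing A] [CommRing B] [IsLocalRing A] [IsLocalRing B]
    (I : Ideal A) (hI : I = ⊥) (e : A ⧸ I ≃+* B) (g : A) (hg : g ∈ nonZeroDivisors A)
    (h : maximalIdeal A = Ideal.span {g}) : ∃ b ∈ nonZeroDivisors B, maximalIdeal B = Ideal.span {b} := by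
  subst hI
  have hinj : Function.Injective (fun a : A => e (Ideal.Quotient.mk ⊥ a)) := by
    intro a b hab
    have h1 := e.injective hab
    rw [Ideal.Quotient.eq, Ideal.mem_bot] at h1
    exact sub_eq_zero.mp h1
  have hsur : Function.Surjective ((e : (A ⧸ (⊥ : Ideal A)) →+* B).comp (Ideal.Quotient.mk ⊥)) :=
    e.surjective.comp Ideal.Quotient.mk_surjective
  refine ⟨e (Ideal.Quotient.mk ⊥ g), ?_, ?_⟩
  · rw [mem_nonZeroDivisors_iff_right] at hg ⊢
    intro b hb
    obtain ⟨a, rfl⟩ := hsur b
    have h2 : e (Ideal.Quotient.mk ⊥ (a * g)) = e (Ideal.Quotient.mk ⊥ 0) := by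
      rw [map_mul, map_mul, map_zero, map_zero]; exact hb
    have h3 := hg a (hinj h2)
    rw [h3, map_zero]
  · rw [← map_maximalIdeal_of_surjective _ hsur, h, Ideal.map_span, Set.image_singleton]
    rfl

/-- Data: a proper reduced connected curve with `n` distinct smooth closed points. -/
structure Pts (n : ℕ) (p : Fin n → X) : Prop where
  inj : Function.Injective p
  cl : ∀ i, IsClosed ({p i} : Set X)
  sm : ∀ i, ∃ U : X.Opens, p i ∈ U ∧ Smooth (U.ι ≫ (X ↘ (Spec (CommRingCat.of k))))

variable {n : ℕ} {p : Fin n → X}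

/-- The closed set of the marked points. -/
abbrev ptsCl (hp : ∀ i, IsClosed ({p i} : Set X)) : Closeds X :=
  ⟨⋃ i, ({p i} : Set X), isClosed_iUnion_of_finite hp⟩

theorem mem_ptsCl (hp : ∀ i, IsClosed ({p i} : Set X)) (x : X) : x ∈ ptsCl hp ↔ ∃ i, x = p i := by
  change x ∈ ⋃ i, ({p i} : Set X) ↔ _
  simp [eq_comm]

theorem stalkIdeal_pts (hp : ∀ i, IsClosed ({p i} : Set X)) (i : Fin n) :
    stalkIdeal (Scheme.IdealSheafData.vanishingIdeal (ptsCl hp)) (p i) = maximalIdeal (X.presheaf.stalk (p i)) := by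
  apply stalkIdeal_vanishingIdeal_eq_maximalIdeal
  · exact (mem_ptsCl hp _).mpr ⟨i, rfl⟩
  · intro y hy hyi
    obtain ⟨j, rfl⟩ := (mem_ptsCl hp y).mp hy
    have h1 : p i ∈ closure ({p j} : Set X) := specializes_iff_mem_closure.mp hyi
    rw [(hp j).closure_eq] at h1
    exact (Set.mem_singleton_iff.mp h1).symm

section

variable [IsProper (X ↘ (Spec (CommRingCat.of k)))] [ConnectedSpace X]
  (hdim : topologicalKrullDim X = 1) (J : X.IdealSheafData) [IsReduced J.subscheme]
  (hJ : ∀ Z ∈ irreducibleComponents (J.subscheme : Type u), topologicalKrullDim Z = 1)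

include hdim hJ in
/-- The stalk ideal of a union of components at a smooth closed point on it vanishes. -/
theorem stalkIdeal_eq_bot (x : X) (hx : IsClosed ({x} : Set X)) (hxJ : x ∈ J.support)
    (hsm : ∃ U : X.Opens, x ∈ U ∧ Smooth (U.ι ≫ (X ↘ (Spec (CommRingCat.of k))))) :
    stalkIdeal J x = ⊥ ∧ ¬ IsField (X.presheaf.stalk x) := by
  have hN := CurveCoh.noetherianSpace k X
  have hreg := NodeSch2.isRegularLocalRing_of_exists k x hsm
  have hdim1 := NodeSch2.krullDimLE_one_stalk hdim.le x
  obtain ⟨I, hI, hIJ⟩ := TailUnion.exists_sUnion_eq hdim.le J hJ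
  have hxJ' : x ∈ (J.support : Set X) := hxJ
  rw [hIJ] at hxJ'
  obtain ⟨Z, hZI, hxZ⟩ := hxJ'
  have hZ1 : topologicalKrullDim Z = 1 := TailMain.pure_of_connected X hdim Z (hI hZI)
  have hZS : Z ⊆ (J.support : Set X) := by rw [hIJ]; exact Set.subset_sUnion_of_mem hZI
  have h1 := not_isField J.support Z (hI hZI) hZ1 hZS x hx hxZ
  have h2 := isReduced_stalk_quotient J.support x
  rw [← TailUnion.eq_vanishingIdeal J] at h1 h2
  have h3 : stalkIdeal J x ≠ ⊤ := (mem_support_iff_stalkIdeal_ne_top J x).mp hxJ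
  have h4 : stalkIdeal J x = ⊥ :=
    NodeSub.eq_bot_of_isRegularLocalRing (stalkIdeal J x) h2 (Ideal.Quotient.nontrivial_iff.mpr h3) h1
  refine ⟨h4, fun hf => h1 ?_⟩
  rw [h4]
  exact (RingEquiv.quotientBot (X.presheaf.stalk x)).toMulEquiv.isField hf

variable (hp : Pts k n p)

include hdim hJ hp in
/-- The inverse image of the divisor of the marked points in a union of components is effective Cartier. -/
theorem isEff_comap :
    BlowUp.IsEffCartierIdeal ((Scheme.IdealSheafData.vanishingIdeal (ptsCl hp.cl)).comap J.subschemeι) ∧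
    ∀ y : J.subscheme, (∃ i, J.subschemeι y = p i) →
      stalkIdeal ((Scheme.IdealSheafData.vanishingIdeal (ptsCl hp.cl)).comap J.subschemeι) y =
        maximalIdeal (J.subscheme.presheaf.stalk y) := by
  have hN := CurveCoh.noetherianSpace k X
  have hNJ : IsLocallyNoetherian J.subscheme := by
    have : LocallyOfFiniteType (J.subschemeι ≫ (X ↘ (Spec (CommRingCat.of k)))) := inferInstance
    exact LocallyOfFiniteType.isLocallyNoetherian (J.subschemeι ≫ (X ↘ (Spec (CommRingCat.of k))))
  have key : ∀ y : J.subscheme, (∃ i, J.subschemeι y = p i) →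
      stalkIdeal ((Scheme.IdealSheafData.vanishingIdeal (ptsCl hp.cl)).comap J.subschemeι) y =
        maximalIdeal (J.subscheme.presheaf.stalk y) := by
    rintro y ⟨i, hi⟩
    rw [stalkIdeal_comap]
    have h1 : stalkIdeal (Scheme.IdealSheafData.vanishingIdeal (ptsCl hp.cl)) (J.subschemeι y) =
        maximalIdeal (X.presheaf.stalk (J.subschemeι y)) := by
      rw [hi]; exact stalkIdeal_pts hp.cl i
    rw [h1]
    have hs : Function.Surjective (J.subschemeι.stalkMap y).hom := J.subschemeι.stalkMap_surjective y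
    have h2 := map_maximalIdeal_of_surjective (J.subschemeι.stalkMap y).hom hs
    exact h2
  refine ⟨isEffCartierIdeal_of_stalkIdeal _ fun y hy => ?_, key⟩
  have hy' : J.subschemeι y ∈ ptsCl hp.cl := by
    have h1 := hy
    rw [Scheme.IdealSheafData.support_comap] at h1
    have h2 : J.subschemeι y ∈ ((Scheme.IdealSheafData.vanishingIdeal (ptsCl hp.cl)).support : Set X) := h1
    rw [Scheme.IdealSheafData.coe_support_vanishingIdeal] at h2
    exact h2
  obtain ⟨i, hi⟩ := (mem_ptsCl hp.cl _).mp hy'
  rw [key y ⟨i, hi⟩]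
  have hxJ : J.subschemeι y ∈ J.support := by
    rw [← SetLike.mem_coe, ← Scheme.IdealSheafData.range_subschemeι]
    exact ⟨y, rfl⟩
  obtain ⟨h1, h2⟩ := stalkIdeal_eq_bot k hdim J hJ (J.subschemeι y) (by rw [hi]; exact hp.cl i) hxJ
    (by rw [hi]; exact hp.sm i)
  have hreg := NodeSch2.isRegularLocalRing_of_exists k (J.subschemeι y) (by rw [hi]; exact hp.sm i)
  have hdim1 := NodeSch2.krullDimLE_one_stalk hdim.le (J.subschemeι y)
  obtain ⟨g, hg, hgm⟩ := exists_gen h2
  exact exists_gen_of_equiv _ h1 (stalkQuotEquiv J y) g hg hgm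

end

end K326.PtsDiv
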