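import Groth.Agent.Curves.K326.PtIdeal
import Groth.Agent.Dix.TwistClosed490

/-!
# The ideal of a separating node is decomposable
-/

set_option autoImplicit false
set_option maxHeartbeats 400000
universe u
open CategoryTheory CategoryTheory.Limits AlgebraicGeometry TopologicalSpace Opposite IsLocalRing

namespace K326.SepNode

open Groth.Agent.Divis.CartierBasic Groth.Agent.CurvesC.TailGeom
open K326.StalkVan Groth.Agent Groth.Agent.Dix.TwistClosed490 Groth.Agent.Dix.IdealModCartier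
open Groth.Agent.Dix.IdealModSec

variable {X : Scheme.{u}}

lemma isIso_of_affine {M N : X.Modules} (φ : M ⟶ N)
    (h : ∀ U : X.affineOpens, Function.Bijective (φ.app U.1)) : IsIso φ := by
  rw [← isIso_iff_of_reflects_iso _ (Scheme.Modules.toPresheaf X)]
  let F : TopCat.Sheaf Ab.{u} X := ⟨M.presheaf, M.isSheaf⟩
  let G : TopCat.Sheaf Ab.{u} X := ⟨N.presheaf, N.isSheaf⟩
  let ψ : F ⟶ G := ⟨φ.mapPresheaf⟩
  have : IsIso ψ := TopCat.Sheaf.isIso_iff_isIso_basis (B := fun U : X.affineOpens ↦ U.1)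
      (by simpa using X.isBasis_affineOpens) (φ := ψ) fun i ↦ by
    rw [ConcreteCategory.isIso_iff_bijective]
    exact h i
  exact @Functor.map_isIso _ _ _ _ _ _ (TopCat.Sheaf.forget Ab.{u} X) ψ this

theorem biprod_total_app {A B : X.Modules} {U : X.Opens} (z : Γ(A ⊞ B, U)) :
    z = (biprod.inl : A ⟶ A ⊞ B).app U ((biprod.fst : A ⊞ B ⟶ A).app U z) +
      (biprod.inr : B ⟶ A ⊞ B).app U ((biprod.snd : A ⊞ B ⟶ B).app U z) := by
  have h := congr(Scheme.Modules.Hom.app $(biprod.total (X := A) (Y := B)) U z)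
  exact h.symm

theorem isIso_desc {I₁ I₂ I : X.IdealSheafData} (h₁ : I₁ ≤ I) (h₂ : I₂ ≤ I) (hsup : I ≤ I₁ ⊔ I₂)
    (hinf : ∀ (U : X.affineOpens) (a : Γ(X, U.1)), a ∈ I₁.ideal U → a ∈ I₂.ideal U → a = 0) :
    IsIso (biprod.desc (incl h₁) (incl h₂)) := by
  apply isIso_of_affine
  intro U
  set φ : ClSub.idealMod I₁ ⊞ ClSub.idealMod I₂ ⟶ ClSub.idealMod I := biprod.desc (incl h₁) (incl h₂) with hφ
  have hinl : ∀ s : Γ(ClSub.idealMod I₁, U.1), φ.app U.1 ((biprod.inl : _ ⟶ _ ⊞ ClSub.idealMod I₂).app U.1 s) =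
      (incl h₁).app U.1 s := fun s => by
    have h := congr(Scheme.Modules.Hom.app $(biprod.inl_desc (incl h₁) (incl h₂)) U.1 s)
    exact h
  have hinr : ∀ s : Γ(ClSub.idealMod I₂, U.1), φ.app U.1 ((biprod.inr : _ ⟶ ClSub.idealMod I₁ ⊞ _).app U.1 s) =
      (incl h₂).app U.1 s := fun s => by
    have h := congr(Scheme.Modules.Hom.app $(biprod.inr_desc (incl h₁) (incl h₂)) U.1 s)
    exact h
  have hval : ∀ (s : Γ(ClSub.idealMod I₁, U.1)) (t : Γ(ClSub.idealMod I₂, U.1)),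
      val I (φ.app U.1 ((biprod.inl : _ ⟶ _ ⊞ ClSub.idealMod I₂).app U.1 s +
        (biprod.inr : _ ⟶ ClSub.idealMod I₁ ⊞ _).app U.1 t)) = val I₁ s + val I₂ t := by
    intro s t
    rw [app_add, hinl, hinr, val_add, val_incl, val_incl]
  constructor
  · intro z z' hz
    have hz1 := biprod_total_app z
    have hz2 := biprod_total_app z'
    have h3 := congrArg (val I) hz
    rw [hz1, hz2, hval, hval] at h3
    set s := (biprod.fst : ClSub.idealMod I₁ ⊞ ClSub.idealMod I₂ ⟶ _).app U.1 z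
    set t := (biprod.snd : ClSub.idealMod I₁ ⊞ ClSub.idealMod I₂ ⟶ _).app U.1 z
    set s' := (biprod.fst : ClSub.idealMod I₁ ⊞ ClSub.idealMod I₂ ⟶ _).app U.1 z'
    set t' := (biprod.snd : ClSub.idealMod I₁ ⊞ ClSub.idealMod I₂ ⟶ _).app U.1 z'
    have h4 : val I₁ s - val I₁ s' = val I₂ t' - val I₂ t := by
      rw [sub_eq_sub_iff_add_eq_add, h3, add_comm]
    have h5 : val I₁ s - val I₁ s' = 0 := hinf U _ (Ideal.sub_mem _ (val_mem I₁ U s) (val_mem I₁ U s'))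
      (h4 ▸ Ideal.sub_mem _ (val_mem I₂ U t') (val_mem I₂ U t))
    have h6 : s = s' := val_injective I₁ (sub_eq_zero.mp h5)
    have h7 : t' = t := val_injective I₂ (sub_eq_zero.mp (h4 ▸ h5))
    rw [hz1, hz2, h6, h7]
  · intro c
    have hc := (hsup : I ≤ I₁ ⊔ I₂) U (val_mem I U c)
    rw [Scheme.IdealSheafData.ideal_sup, Pi.sup_apply] at hc
    obtain ⟨a, ha, b, hb, hab⟩ := Submodule.mem_sup.mp hc
    obtain ⟨s, hs⟩ := exists_val_eq I₁ U ha
    obtain ⟨t, ht⟩ := exists_val_eq I₂ U hb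
    refine ⟨_, val_injective I (by rw [hval s t, hs, ht]; exact hab)⟩

theorem eq_bot_of_incl {I J : X.IdealSheafData} (h : I ≤ J) (h0 : incl h = 0) : I = ⊥ := by
  apply Scheme.IdealSheafData.ext
  funext U
  rw [Scheme.IdealSheafData.ideal_bot, Pi.bot_apply, eq_bot_iff]
  intro a ha
  obtain ⟨s, rfl⟩ := exists_val_eq I U ha
  have h1 := val_incl h s
  rw [h0] at h1
  have h2 : val J ((0 : ClSub.idealMod I ⟶ ClSub.idealMod J).app U.1 s) = 0 :=
    map_zero ((ClSub.idealModι J).app U.1).hom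
  rw [← h1, h2]
  exact Submodule.zero_mem _

theorem exists_idempotent {I₁ I₂ I : X.IdealSheafData} (h₁ : I₁ ≤ I) (h₂ : I₂ ≤ I) (hsup : I ≤ I₁ ⊔ I₂)
    (hinf : ∀ (U : X.affineOpens) (a : Γ(X, U.1)), a ∈ I₁.ideal U → a ∈ I₂.ideal U → a = 0)
    (hne₁ : I₁ ≠ ⊥) (hne₂ : I₂ ≠ ⊥) :
    ∃ e : ClSub.idealMod I ⟶ ClSub.idealMod I, e ≫ e = e ∧ e ≠ 0 ∧ e ≠ 𝟙 _ := by
  have hiso := isIso_desc h₁ h₂ hsup hinf
  set φ := biprod.desc (incl h₁) (incl h₂) with hφ
  have hinl : biprod.inl ≫ φ = incl h₁ := biprod.inl_desc _ _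
  have hinr : biprod.inr ≫ φ = incl h₂ := biprod.inr_desc _ _
  refine ⟨inv φ ≫ biprod.fst ≫ biprod.inl ≫ φ, ?_, ?_, ?_⟩
  · simp
  · intro h0
    apply hne₁
    apply eq_bot_of_incl h₁
    have h1 : incl h₁ ≫ (inv φ ≫ biprod.fst ≫ biprod.inl ≫ φ) = incl h₁ := by
      rw [← hinl]
      simp
    rw [← h1, h0, comp_zero]
  · intro h0
    apply hne₂
    apply eq_bot_of_incl h₂
    have h1 : incl h₂ ≫ (inv φ ≫ biprod.fst ≫ biprod.inl ≫ φ) = 0 := by
      rw [← hinr]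
      simp
    rw [h0, Category.comp_id] at h1
    exact h1

/-- The topology of a separating point. -/
theorem exists_closeds [ConnectedSpace X] (P : X) (hP : IsClosed ({P} : Set X))
    (hsep : ¬ IsPreconnected (({P} : Set X)ᶜ)) :
    ∃ Y : Closeds X, (Y : Set X) ⊆ closure (interior Y) ∧ (Y : Set X) ∩ closure (Y : Set X)ᶜ = {P} ∧
      (Y : Set X) ≠ Set.univ ∧ closure (Y : Set X)ᶜ ≠ Set.univ ∧ (Y : Set X) ∪ closure (Y : Set X)ᶜ = Set.univ := by
  unfold _root_.IsPreconnected at hsep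
  push Not at hsep
  obtain ⟨U, V, hU, hV, hcov, ⟨a, haP, haU⟩, ⟨b, hbP, hbV⟩, hem⟩ := hsep
  have hPo : IsOpen ({P} : Set X)ᶜ := hP.isOpen_compl
  have hPU : IsOpen (({P} : Set X)ᶜ ∩ U) := hPo.inter hU
  have hPV : IsOpen (({P} : Set X)ᶜ ∩ V) := hPo.inter hV
  have hdisj : ∀ x, x ∈ ({P} : Set X)ᶜ → x ∈ U → x ∈ V → False := by
    intro x h1 h2 h3
    have : x ∈ ({P} : Set X)ᶜ ∩ (U ∩ V) := ⟨h1, h2, h3⟩
    simp only [hem] at this
    exact this
  -- the closure of one piece contains `P`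
  have key : ∀ (A B : Set X), IsOpen A → IsOpen B → (∀ x, x ∉ A → x ∉ B → x = P) → P ∉ A → A.Nonempty → B.Nonempty →
      (∀ x, x ∈ A → x ∈ B → False) → P ∈ closure A := by
    intro A B hA hB hAB hPA hAne hBne hd
    by_contra hcl
    have hAcl : IsClosed A := by
      rw [← closure_subset_iff_isClosed]
      intro x hx
      by_contra hxA
      by_cases hxB : x ∈ B
      · obtain ⟨y, hy1, hy2⟩ := mem_closure_iff.mp hx B hB hxB
        exact hd y hy2 hy1
      · exact hcl (hAB x hxA hxB ▸ hx)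
    have huniv := (show IsClopen A from ⟨hAcl, hA⟩).eq_univ hAne
    obtain ⟨y, hy⟩ := hBne
    exact hd y (huniv ▸ Set.mem_univ y) hy
  have hcov' : ∀ x, x ∉ ({P} : Set X)ᶜ ∩ U → x ∉ ({P} : Set X)ᶜ ∩ V → x = P := by
    intro x h1 h2
    by_contra hx
    rcases hcov (show x ∈ ({P} : Set X)ᶜ from hx) with h | h
    · exact h1 ⟨hx, h⟩
    · exact h2 ⟨hx, h⟩
  have hPU' : P ∈ closure (({P} : Set X)ᶜ ∩ U) :=
    key _ _ hPU hPV hcov' (fun h => h.1 rfl) ⟨a, haP, haU⟩ ⟨b, hbP, hbV⟩ (fun x h1 h2 => hdisj x h1.1 h1.2 h2.2)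
  have hPV' : P ∈ closure (({P} : Set X)ᶜ ∩ V) :=
    key _ _ hPV hPU (fun x h1 h2 => hcov' x h2 h1) (fun h => h.1 rfl) ⟨b, hbP, hbV⟩ ⟨a, haP, haU⟩
      (fun x h1 h2 => hdisj x h1.1 h2.2 h1.2)
  let Y : Closeds X := ⟨(({P} : Set X)ᶜ ∩ V)ᶜ, hPV.isClosed_compl⟩
  have hYc : (Y : Set X)ᶜ = ({P} : Set X)ᶜ ∩ V := compl_compl _
  have hint : ({P} : Set X)ᶜ ∩ U ⊆ interior (Y : Set X) :=
    interior_maximal (fun x hx hxV => hdisj x hx.1 hx.2 hxV.2) hPU
  have hclV : closure (({P} : Set X)ᶜ ∩ V) ⊆ (({P} : Set X)ᶜ ∩ U)ᶜ :=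
    closure_minimal (fun x hx hxU => hdisj x hx.1 hxU.2 hx.2) hPU.isClosed_compl
  refine ⟨Y, ?_, ?_, ?_, ?_, ?_⟩
  · intro x hx
    by_cases hxU : x ∈ ({P} : Set X)ᶜ ∩ U
    · exact subset_closure (hint hxU)
    · rw [hcov' x hxU hx]
      exact closure_mono hint hPU'
  · rw [hYc]
    apply Set.Subset.antisymm
    · rintro x ⟨hx1, hx2⟩
      exact hcov' x (hclV hx2) hx1
    · rintro x rfl
      exact ⟨fun h => h.1 rfl, hPV'⟩
  · intro h
    have : b ∈ (Y : Set X) := h ▸ Set.mem_univ b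
    exact this ⟨hbP, hbV⟩
  · intro h
    rw [hYc] at h
    exact hclV (h ▸ Set.mem_univ a) ⟨haP, haU⟩
  · rw [hYc]
    apply Set.eq_univ_of_forall
    intro x
    by_cases hx : x ∈ ({P} : Set X)ᶜ ∩ V
    · exact Or.inr (subset_closure hx)
    · exact Or.inl hx

theorem main (k : Type u) [Field k] [X.Over (Spec (CommRingCat.of k))]
    [LocallyOfFiniteType (X ↘ (Spec (CommRingCat.of k)))] [IsReduced X] [IsNoetherian X] [ConnectedSpace X]
    (P : X) (hP : IsClosed ({P} : Set X)) (hnode : Curv2.IsNode k X P) (hsep : ¬ IsPreconnected (({P} : Set X)ᶜ)) :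
    ∃ e : ClSub.idealMod (Scheme.IdealSheafData.vanishingIdeal ⟨{P}, hP⟩) ⟶
        ClSub.idealMod (Scheme.IdealSheafData.vanishingIdeal ⟨{P}, hP⟩),
      e ≫ e = e ∧ e ≠ 0 ∧ e ≠ 𝟙 _ := by
  obtain ⟨Y, hY, hint, hY1, hY2, hcov⟩ := exists_closeds P hP hsep
  have hPY : P ∈ (Y : Set X) ∩ closure (Y : Set X)ᶜ := by rw [hint]; rfl
  have hnod := K326.NodeInter.stalkIdeal_sup_eq_of_isNode k Y hY P hnode hPY.1 hPY.2
  have hsY : ((Scheme.IdealSheafData.vanishingIdeal Y : X.IdealSheafData).support : Set X) = Y :=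
    Scheme.IdealSheafData.coe_support_vanishingIdeal _
  have hsup : Scheme.IdealSheafData.vanishingIdeal ⟨{P}, hP⟩ = Scheme.IdealSheafData.vanishingIdeal Y ⊔ complIdeal Y := by
    apply ext_stalkIdeal
    intro x
    by_cases hx : x = P
    · subst hx
      rw [stalkIdeal_sup, hnod]
      exact K326.PtIdeal.stalkIdeal_point x hP
    · rw [K326.PtIdeal.stalkIdeal_eq_top (fun h => hx ((K326.PtIdeal.mem_support_iff P hP x).mp h))]
      symm
      apply K326.PtIdeal.stalkIdeal_eq_top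
      intro h
      have h' : x ∈ ((Scheme.IdealSheafData.vanishingIdeal Y ⊔ complIdeal Y).support : Set X) := h
      rw [Scheme.IdealSheafData.support_sup, Closeds.coe_inf, support_complIdeal, hsY, hint] at h'
      exact hx h'
  have hinf : ∀ (U : X.affineOpens) (a : Γ(X, U.1)), a ∈ (Scheme.IdealSheafData.vanishingIdeal Y).ideal U →
      a ∈ (complIdeal Y).ideal U → a = 0 := by
    intro U a ha hb
    have h1 := Groth.Agent.CurvesC.DualIdeals.mul_eq_zero Y.isClosed U a a ha hb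
    have hred : _root_.IsReduced Γ(X, U.1) := inferInstance
    exact hred.eq_zero a ⟨2, by rw [sq]; exact h1⟩
  refine exists_idempotent (I := Scheme.IdealSheafData.vanishingIdeal ⟨{P}, hP⟩)
    (I₁ := Scheme.IdealSheafData.vanishingIdeal Y) (I₂ := complIdeal Y) (by rw [hsup]; exact le_sup_left)
    (by rw [hsup]; exact le_sup_right) hsup.le hinf ?_ ?_
  · intro h
    apply hY1
    rw [← hsY, h, Scheme.IdealSheafData.support_bot]
    rfl
  · intro h
    apply hY2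
    rw [← support_complIdeal, h, Scheme.IdealSheafData.support_bot]
    rfl

end K326.SepNode
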