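import Groth.Agent.Curves.K326.SemiMain
import Groth.Agent.PerfB.DualMod
import Groth.Agent.S7637
import Groth.Agent.Grpsch.PicGrp
import Groth.Agent.Ega2.TensGen

/-!
# Vanishing of `H⁰` on trees of rational curves
-/

set_option autoImplicit false
set_option maxHeartbeats 400000
universe u
open CategoryTheory CategoryTheory.Limits AlgebraicGeometry TopologicalSpace Opposite IsLocalRing

namespace K326.TreeVan

open Groth.Agent.Divis.CartierBasic Groth.Agent.Divis.CartierStalk Groth.Agent.CurvesC.TailGeom
open Groth.Agent.CurvesB Groth.Agent.CurvesC K326.StalkVan K326.PtsDiv K326.DegPts Groth.Agent K326.SemiStab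
open Groth.Agent.CurvesC.TailNum Groth.Agent.CurvesC.DegIso Groth.Agent.CurvesC.TailComp
open Groth.Agent.Fdesc.LocGen

attribute [local instance] subOver

section modules

variable {X : Scheme.{u}}

/-- Tensoring a nonzero map with an invertible module gives a nonzero map. -/
theorem mapT_ne_zero {F M N : X.Modules} (hF : PicF.IsInvertible F) {f : M ⟶ N} (hf : f ≠ 0) :
    Ega2.Tens.mapT f (𝟙 F) ≠ 0 := by
  intro h0
  apply hf
  apply Scheme.Modules.hom_ext
  intro U
  ext m
  choose W e hx hWU _ he using fun x : U => Groth.Agent.Ega2.TensGen.exists_affine_gen hF x.1 x.2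
  have hc : U ≤ ⨆ x : U, W x := fun x hx' => Opens.mem_iSup.mpr ⟨⟨x, hx'⟩, hx _⟩
  refine res_ext N W hWU hc fun x => ?_
  have h1 := congr(($h0).app (W x) (Ega2.Tens.tmul (res M (hWU x) m) (e x)))
  have h2 : Ega2.Tens.tmul (f.app (W x) (res M (hWU x) m)) (e x) = (0 : Γ(CohB1.tensorMod N F, W x)) :=
    (Ega2.Tens.mapT_tmul f (𝟙 F) _ _).symm.trans h1
  have h3 := Groth.Agent.Ega2.TensGen.tmul_gen_eq_zero (he x) h2
  rw [app_res] at h3
  rw [h3]
  exact (map_zero (res N (hWU x))).symm

/-- A nonzero section of `L` gives a nonzero class in the dual `H¹`. -/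
theorem exists_dual (k : Type u) [Field k] [X.Over (Spec (CommRingCat.of k))] {w : X.Modules}
    (hw : PicF.IsInvertible w) {t : Coh.HH X w 1 →ₗ[k] k} (ht : DualCount.IsPair k t)
    (L : X.Modules) (hL : PicF.IsInvertible L) (s : Coh.structureModule X ⟶ L) (hs : s ≠ 0) :
    ∃ F : X.Modules, PicF.IsInvertible F ∧ Nonempty (CohB1.tensorMod L F ≅ w) ∧ Nontrivial (Coh.HH X F 1) := by
  obtain ⟨L', hL', ⟨e⟩⟩ := Groth.Agent.Grpsch.PicGrp.exists_inverse hL
  have hF := Groth.Agent.Fdesc.LocGen.isInvertible_tensorMod hL' hw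
  have α : CohB1.tensorMod L (CohB1.tensorMod L' w) ≅ w :=
    (Ega2.Tens.assoc L L' w).symm ≪≫ Ega2.Tens.mapTIso e (Iso.refl w) ≪≫ Ega2.Tens.lunit w
  refine ⟨CohB1.tensorMod L' w, hF, ⟨α⟩, ?_⟩
  by_contra hcon
  rw [not_nontrivial_iff_subsingleton] at hcon
  obtain ⟨φ₀, -, huniq⟩ := ht (CohB1.tensorMod L' w) (Groth.Agent.Ega2.QCohLocal.isQCoh_of_isInvertible hF) 0
  have h1 : ∀ φ : CohB1.tensorMod L' w ⟶ w, φ = φ₀ := fun φ => huniq φ fun x => by
    rw [Subsingleton.elim x 0]
    simp
  have h2 := (h1 ((Ega2.Tens.lunit _).inv ≫ Ega2.Tens.mapT s (𝟙 _) ≫ α.hom)).trans (h1 0).symm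
  apply mapT_ne_zero hF hs
  have h3 : Ega2.Tens.mapT s (𝟙 (CohB1.tensorMod L' w)) ≫ α.hom = 0 := by
    rw [← cancel_epi (Ega2.Tens.lunit (CohB1.tensorMod L' w)).inv, h2, comp_zero]
  rw [← cancel_mono α.hom, h3, zero_comp]

end modules

section

variable (k : Type u) [Field k] (X : Scheme.{u}) [X.Over (Spec (CommRingCat.of k))]
  [IsProper (X ↘ (Spec (CommRingCat.of k)))]

theorem exists_sub_of_H1 [IsAlgClosed k] [IsReduced X] [ConnectedSpace X] (hdim : topologicalKrullDim X = 1)
    (F : X.Modules) (hF : PicF.IsInvertible F) (h : Nontrivial (Coh.HH X F 1)) :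
    ∃ J : X.IdealSheafData, IsReduced J.subscheme ∧ ConnectedSpace J.subscheme ∧
      topologicalKrullDim J.subscheme = 1 ∧
      Curv2.deg k J.subscheme ((Scheme.Modules.pullback J.subschemeι).obj F) 1 ≤
        2 * (Curv2.genus k J.subscheme : ℤ) - 2 := by
  obtain ⟨e0⟩ := K326.SemiMain.idealMod_top X
  have e1 : CohB1.tensorMod (ClSub.idealMod (⊤ : X.IdealSheafData)) F ≅ F :=
    Ega2.Tens.mapTIso e0.symm (Iso.refl _) ≪≫ Ega2.Tens.lunit _
  have hnt : Nontrivial (Coh.HH X (CohB1.tensorMod (ClSub.idealMod (⊤ : X.IdealSheafData)) F) 1) :=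
    (CurvesA.HHMap.equivOver k e1 1).toEquiv.nontrivial
  have hZ : topologicalKrullDim (((⊤ : X.IdealSheafData).support : Set X) : Type u) ≤ 0 := by
    have : IsEmpty (((⊤ : X.IdealSheafData).support : Set X) : Type u) := by
      rw [Scheme.IdealSheafData.support_top]
      exact ⟨fun x => x.2⟩
    have h2 : IsEmpty (IrreducibleCloseds (((⊤ : X.IdealSheafData).support : Set X) : Type u)) :=
      ⟨fun Z => this.elim Z.isIrreducible.1.some⟩
    exact (Order.krullDim_eq_bot (α := IrreducibleCloseds _)).le.trans bot_le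
  obtain ⟨J, hJr, hJc, hJ1, hle⟩ := Groth.Agent.S1605.result k X hdim _ hF ⊤ hZ hnt
  have hP : IsProper (J.subscheme ↘ Spec (CommRingCat.of k)) :=
    inferInstanceAs (IsProper (J.subschemeι ≫ (X ↘ (Spec (CommRingCat.of k)))))
  have h1 : Curv2.euler k J.subscheme (Coh.structureModule J.subscheme) = 1 - (Curv2.genus k J.subscheme : ℤ) := by
    rw [CurveCoh.euler_eq k J.subscheme hJ1, finrank_zero k J.subscheme]
    rfl
  have h2 : Curv2.deg k J.subscheme ((Scheme.Modules.pullback J.subschemeι).obj F) 1 ≤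
      -2 * Curv2.euler k J.subscheme (Coh.structureModule J.subscheme) +
        (Module.finrank k (Coh.HH X (ClSub.quotMod (⊤ ⊔ J)) 0) : ℤ) := hle
  rw [top_sup_eq, K326.SemiMain.finrank_quotMod_top k X, h1] at h2
  refine ⟨J, hJr, hJc, hJ1, h2.trans (le_of_eq ?_)⟩
  push_cast
  ring

/-- The local ring at a maximal point of a reduced scheme is a field. -/
theorem isField_stalk {T : Scheme.{u}} [IsReduced T] (η : T) (hη : ∀ t : T, t ⤳ η → t = η) :
    IsField (T.presheaf.stalk η) := by
  have hu : ∀ p : PrimeSpectrum (T.presheaf.stalk η), p = IsLocalRing.closedPoint _ := by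
    intro p
    have h1 : (T.fromSpecStalk η) p ∈ Set.range (T.fromSpecStalk η) := ⟨p, rfl⟩
    rw [Scheme.range_fromSpecStalk] at h1
    have h2 := hη _ h1
    apply (T.fromSpecStalk η).isEmbedding.injective
    rw [h2, Scheme.fromSpecStalk_closedPoint]
  have hred : _root_.IsReduced (T.presheaf.stalk η) := inferInstance
  have h3 : IsLocalRing.maximalIdeal (T.presheaf.stalk η) = ⊥ := by
    rw [eq_bot_iff]
    intro a ha
    have h4 : a ∈ nilradical (T.presheaf.stalk η) := by
      rw [nilradical_eq_sInf, Submodule.mem_sInf]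
      intro p hp
      have := hu ⟨p, hp⟩
      have h5 : p = IsLocalRing.maximalIdeal (T.presheaf.stalk η) := congrArg PrimeSpectrum.asIdeal this
      rw [h5]; exact ha
    rw [nilradical_eq_zero] at h4
    exact h4
  exact IsLocalRing.isField_iff_maximalIdeal_eq.mpr h3

theorem length_generic {T : Scheme.{u}} [IsReduced T] (Z : irreducibleComponents (T : Type u)) :
    (Module.length (T.presheaf.stalk Z.2.1.genericPoint) (T.presheaf.stalk Z.2.1.genericPoint)).toNat = 1 := by
  have hcl : IsClosed Z.1 := isClosed_of_mem_irreducibleComponents _ Z.2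
  have hgen : IsGenericPoint Z.2.1.genericPoint Z.1 := Z.2.1.isGenericPoint_genericPoint hcl
  have hf : IsField (T.presheaf.stalk Z.2.1.genericPoint) := by
    apply isField_stalk
    intro t ht
    have h1 : Z.1 ⊆ closure {t} := by
      rw [← hgen.def]
      exact closure_minimal (Set.singleton_subset_iff.mpr (specializes_iff_mem_closure.mp ht)) isClosed_closure
    have h2 := Z.2.2 (isIrreducible_singleton.closure) h1
    have h3 : Z.1 = closure {t} := h1.antisymm h2
    have h4 : IsGenericPoint t Z.1 := h3.symm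
    exact h4.eq hgen
  let _ := hf.toField
  have : IsSimpleModule (T.presheaf.stalk Z.2.1.genericPoint) (T.presheaf.stalk Z.2.1.genericPoint) := inferInstance
  rw [Module.length_eq_one]
  rfl

/-- Lower bound for the degree from lower bounds on components. -/
theorem neg_one_le_deg (hdim : topologicalKrullDim X ≤ 1) (J : X.IdealSheafData) [IsReduced J.subscheme]
    (w : X.Modules) (hw : PicF.IsInvertible w) (E₀ : Set X)
    (h : ∀ (C : Set X) (hC : C ∈ irreducibleComponents (X : Type u)), topologicalKrullDim (C : Set X) = 1 →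
      (if C = E₀ then (-1 : ℤ) else 0) ≤
        Curv2.deg k (compIdeal C hC).subscheme ((Scheme.Modules.pullback (compIdeal C hC).subschemeι).obj w) 1) :
    -1 ≤ Curv2.deg k J.subscheme ((Scheme.Modules.pullback J.subschemeι).obj w) 1 := by
  classical
  have hP : IsProper (J.subscheme ↘ Spec (CommRingCat.of k)) :=
    inferInstanceAs (IsProper (J.subschemeι ≫ (X ↘ (Spec (CommRingCat.of k)))))
  have hN : IsNoetherian J.subscheme := isNoetherian_sub k X J
  have hd : topologicalKrullDim J.subscheme ≤ 1 :=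
    (J.subschemeι.isClosedEmbedding.isInducing.topologicalKrullDim_le).trans hdim
  have key := Groth.Agent.S1641.result k J.subscheme hd 1 ((Scheme.Modules.pullback J.subschemeι).obj w)
    (Groth.Agent.Ega2.QCohLocal.isFinLocFreeOfRank_one_iff.mpr
      (Groth.Agent.Fdesc.LocGen.isInvertible_pullback J.subschemeι hw))
  have hfin : Finite (irreducibleComponents (J.subscheme : Type u)) :=
    NoetherianSpace.finite_irreducibleComponents (α := (J.subscheme : Type u))
  let _ := Fintype.ofFinite (irreducibleComponents (J.subscheme : Type u))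
  rw [key, finsum_eq_sum_of_fintype]
  have hinj : Function.Injective fun Z : irreducibleComponents (J.subscheme : Type u) => J.subschemeι '' Z.1 :=
    fun Z Z' hZ => Subtype.ext (J.subschemeι.injective.image_injective hZ)
  have hb : ∀ Z : irreducibleComponents (J.subscheme : Type u),
      (if J.subschemeι '' Z.1 = E₀ then (-1 : ℤ) else 0) ≤
      (if topologicalKrullDim (Z.1 : Set J.subscheme) = 1 then
        ((Module.length (J.subscheme.presheaf.stalk Z.2.1.genericPoint)
          (J.subscheme.presheaf.stalk Z.2.1.genericPoint)).toNat : ℤ) *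
          @Curv2.deg k _ (J.subscheme.irreducibleComponentIdeal Z.1 Z.2).radical.subscheme
            ⟨(J.subscheme.irreducibleComponentIdeal Z.1 Z.2).radical.subschemeι ≫
              (J.subscheme ↘ (Spec (CommRingCat.of k)))⟩
            ((Scheme.Modules.pullback (J.subscheme.irreducibleComponentIdeal Z.1 Z.2).radical.subschemeι).obj
              ((Scheme.Modules.pullback J.subschemeι).obj w)) 1
      else 0) := by
    intro Z
    by_cases hZ : topologicalKrullDim (Z.1 : Set J.subscheme) = 1
    · rw [if_pos hZ, length_generic Z, Nat.cast_one, one_mul]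
      set I := (J.subscheme.irreducibleComponentIdeal Z.1 Z.2).radical with hI
      have hran : Set.range I.subschemeι = Z.1 := Scheme.IdealSheafData.range_subschemeι I
      have hran' : Set.range (I.subschemeι ≫ J.subschemeι) = J.subschemeι '' Z.1 := by
        rw [Scheme.Hom.comp_base, TopCat.coe_comp, Set.range_comp, hran]
      have hdim1 : topologicalKrullDim (Set.range (I.subschemeι ≫ J.subschemeι)) = 1 := by
        rw [Groth.Agent.VarietyB.DegComp.topologicalKrullDim_range_eq,
          ← Groth.Agent.VarietyB.DegComp.topologicalKrullDim_range_eq I.subschemeι, hran]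
        exact hZ
      have hirr : IsIrreducible (Set.range (I.subschemeι ≫ J.subschemeι)) := by
        rw [hran']
        exact Z.2.1.image _ J.subschemeι.continuous.continuousOn
      have hC : Set.range (I.subschemeι ≫ J.subschemeι) ∈ irreducibleComponents (X : Type u) := by
        rcases Groth.Agent.VarietyB.DegComp.mem_irreducibleComponents_of_dim hdim _ hirr
          (I.subschemeι ≫ J.subschemeι).isClosedEmbedding.isClosed_range with h1 | h1
        · rw [hdim1] at h1
          exact absurd h1 (by decide)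
        · exact h1.1
      have hnn := h _ hC hdim1
      have hred : IsReduced I.subscheme := Groth.Agent.Ega1.ReducedSub.isReduced_subscheme_radical _
      obtain ⟨e, he⟩ := Groth.Agent.Ega1.ReducedSub.exists_iso_of_range_eq (I.subschemeι ≫ J.subschemeι)
        (compIdeal _ hC).subschemeι (range_comp _ hC).symm
      let _ : I.subscheme.Over (Spec (CommRingCat.of k)) :=
        ⟨I.subschemeι ≫ (J.subscheme ↘ (Spec (CommRingCat.of k)))⟩
      have h2 := deg_restrict k (I.subschemeι ≫ J.subschemeι) (compIdeal _ hC).subschemeι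
        (Category.assoc _ _ _) rfl e he w 1
      rw [← h2, ← deg_restrict_restrict, hran'] at hnn
      exact hnn
    · rw [if_neg hZ]
      split_ifs <;> norm_num
  refine le_trans ?_ (Finset.sum_le_sum fun Z _ => hb Z)
  by_cases hex : ∃ Z₀ : irreducibleComponents (J.subscheme : Type u), J.subschemeι '' Z₀.1 = E₀
  · obtain ⟨Z₀, rfl⟩ := hex
    have h1 : ∀ Z : irreducibleComponents (J.subscheme : Type u),
        (if J.subschemeι '' Z.1 = J.subschemeι '' Z₀.1 then (-1 : ℤ) else 0) = if Z = Z₀ then -1 else 0 := by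
      intro Z
      by_cases hZ : Z = Z₀
      · rw [if_pos hZ, if_pos (by rw [hZ])]
      · rw [if_neg hZ, if_neg fun h' => hZ (hinj h')]
    rw [Finset.sum_congr rfl fun Z _ => h1 Z]
    simp
  · push Not at hex
    rw [Finset.sum_eq_zero fun Z _ => if_neg (hex Z)]
    norm_num

/-- The degree of the dualizing module on connected subcurves. -/
theorem deg_w [IsAlgClosed k] [IsReduced X] (hdim : topologicalKrullDim X = 1)
    (hX : Curv2.AtWorstNodal k X) (w : X.Modules) (hw : PicF.IsInvertible w) {t : Coh.HH X w 1 →ₗ[k] k}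
    (ht : DualCount.IsPair k t) (J : X.IdealSheafData) [IsReduced J.subscheme] [ConnectedSpace J.subscheme]
    (hJ1 : topologicalKrullDim J.subscheme = 1) :
    Curv2.deg k J.subscheme ((Scheme.Modules.pullback J.subschemeι).obj w) 1 =
      2 * (Curv2.genus k J.subscheme : ℤ) - 2 + (((J.support : Set X) ∩ closure (J.support : Set X)ᶜ).ncard : ℤ) := by
  have hP : IsProper (J.subscheme ↘ Spec (CommRingCat.of k)) :=
    inferInstanceAs (IsProper (J.subschemeι ≫ (X ↘ (Spec (CommRingCat.of k)))))
  have hN1 := isNoetherian_sub k X J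
  have hN2 := Groth.Agent.VarietyB.DegFin.isNoetherian_of_isProper k X
  have hpure := TailMain.pure_of_connected J.subscheme hJ1
  have hci := TailUnion.subset_closure_interior hdim.le J hpure
  have h1 := DualDegForm.deg_form k hdim w hw ht J.support hci
  have h2 := finrank_inter k X hdim.le hX J.support hci
  rw [← TailUnion.eq_vanishingIdeal J] at h1 h2
  have h3 : Module.finrank k (Coh.HH X (ClSub.quotMod J) 0) = 1 := by
    rw [← finrank_quotMod k X J 0]
    exact finrank_zero k J.subscheme
  have h4 : Module.finrank k (Coh.HH X (ClSub.quotMod J) 1) = Curv2.genus k J.subscheme :=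
    (finrank_quotMod k X J 1).symm
  rw [h2, h3, h4] at h1
  have h5 : Curv2.deg k J.subscheme ((Scheme.Modules.pullback J.subschemeι).obj w) 1 =
    (((J.support : Set X) ∩ closure (J.support : Set X)ᶜ).ncard : ℤ) -
      2 * (((1 : ℕ) : ℤ) - (Curv2.genus k J.subscheme : ℤ)) := h1
  rw [h5]
  push_cast
  ring

/-- The main theorem of S16209. -/
theorem main [IsAlgClosed k] [IsReduced X] [ConnectedSpace X] (hdim : topologicalKrullDim X = 1)
    (hX : Curv2.AtWorstNodal k X) (hg : Curv2.genus k X = 0) (L : X.Modules) (hL : PicF.IsInvertible L)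
    (E₀ : Set X)
    (h : ∀ (C : Set X) (hC : C ∈ irreducibleComponents (X : Type u)),
      Curv2.deg k (compIdeal C hC).subscheme ((Scheme.Modules.pullback (compIdeal C hC).subschemeι).obj L) 1 ≤
        ((C ∩ closure Cᶜ).ncard : ℤ) - 2 - (if C = E₀ then (-1 : ℤ) else 0)) :
    Subsingleton (Coh.HH X L 0) := by
  by_contra hcon
  rw [not_subsingleton_iff_nontrivial] at hcon
  have hnt : Nontrivial Γ(L, ⊤) := (Groth.Agent.CurvesB.HZero.equivAdd L).symm.toEquiv.nontrivial
  obtain ⟨m, hm⟩ := exists_ne (0 : Γ(L, ⊤))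
  have hs : homOf m ≠ 0 := by
    intro h0
    apply hm
    have h1 := congrArg (fun s => sec s ⊤) h0
    have h2 : sec (homOf m) ⊤ = m := by rw [sec_homOf, res_refl]
    exact h2.symm.trans h1
  obtain ⟨w, t, hw, ht⟩ := Groth.Agent.PerfB.DualMod.exists_rep k X 1 hdim
  have hdual : IsDual w t := by
    intro F hF ψ
    obtain ⟨hi, hsur⟩ := ht F hF
    obtain ⟨φ, hφ⟩ := hsur ψ
    exact ⟨φ, hφ, fun φ' hφ' => hi (hφ'.trans hφ.symm)⟩
  have hwi := DualNodal.isInvertible_of_isDual k hdim (finrank_zero k X) hX hdual hw.1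
  have hpair := DualNodal.isPair_of_isDual k hdual
  obtain ⟨F, hF, ⟨α⟩, hntF⟩ := exists_dual k hwi hpair L hL _ hs
  obtain ⟨J, hJr, hJc, hJ1, hle⟩ := exists_sub_of_H1 k X hdim F hF hntF
  have hg0 : Curv2.genus k J.subscheme = 0 := Nat.le_zero.mp ((genus_sub_le k X hdim.le J).trans_eq hg)
  have h1 := neg_one_le_deg k X hdim.le J F hF E₀ (fun C hC hC1 => by
    have hP : IsProper ((compIdeal C hC).subscheme ↘ Spec (CommRingCat.of k)) :=
      inferInstanceAs (IsProper ((compIdeal C hC).subschemeι ≫ (X ↘ (Spec (CommRingCat.of k)))))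
    have hirr := irreducible_comp C hC
    have hcon := connected_comp C hC
    have hd := dim_comp X hC hC1
    have h2 := deg_w k X hdim hX w hwi hpair (compIdeal C hC) hd
    have hgC : Curv2.genus k (compIdeal C hC).subscheme = 0 :=
      Nat.le_zero.mp ((genus_sub_le k X hdim.le _).trans_eq hg)
    obtain ⟨e2⟩ := Dix.IdealModCartier.pullback_tensorMod (compIdeal C hC).subschemeι hL hF
    have h3 := Groth.Agent.S7637.result k (compIdeal C hC).subscheme hd.le 1 1
      ((Scheme.Modules.pullback (compIdeal C hC).subschemeι).obj L)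
      ((Scheme.Modules.pullback (compIdeal C hC).subschemeι).obj F)
      (Groth.Agent.Ega2.QCohLocal.isFinLocFreeOfRank_one_iff.mpr
        (Groth.Agent.Fdesc.LocGen.isInvertible_pullback (compIdeal C hC).subschemeι hL))
      (Groth.Agent.Ega2.QCohLocal.isFinLocFreeOfRank_one_iff.mpr
        (Groth.Agent.Fdesc.LocGen.isInvertible_pullback (compIdeal C hC).subschemeι hF))
    rw [mul_one, ← deg_congr k (((Scheme.Modules.pullback (compIdeal C hC).subschemeι).mapIso α).symm ≪≫ e2) 1,
      h2, hgC, coe_support_compIdeal] at h3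
    have h4 := h C hC
    have h5 : (2 : ℤ) * ((0 : ℕ) : ℤ) - 2 + ((C ∩ closure Cᶜ).ncard : ℤ) =
      ((1 : ℕ) : ℤ) * Curv2.deg k (compIdeal C hC).subscheme
        ((Scheme.Modules.pullback (compIdeal C hC).subschemeι).obj F) 1 +
      ((1 : ℕ) : ℤ) * Curv2.deg k (compIdeal C hC).subscheme
        ((Scheme.Modules.pullback (compIdeal C hC).subschemeι).obj L) 1 := h3
    push_cast at h5
    linarith)
  rw [hg0] at hle
  push_cast at hle
  linarith

end

end K326.TreeVan
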